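/-
Conjugation families and well-placed subgroups (Def_ConjugacyFunctors).

Main results (namespace `Cfsg.Agent.AlperinFamily`):
* `cj g H` = g H g⁻¹, `FN p S U` : N_S(U) has index prime to p in N_G(U);
* `eq_of_sylowish`, `exists_conj_into_fn`, `exists_conj_sylow_step` : moving a subgroup to a fully normalised one;
* `Steps 𝓕 A g` : inductive form of the chains of a conjugation family, `steps_to_chain`, `isConjugationFamily_of_reps`;
* conjugacy functors: `functor_cj`, `le_normalizer_functor`, `functorTower_le`, `functorTower_shift`,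
  `exists_wellPlaced_conj`, `wellPlaced_steps`.
-/
import Cfsg.Agent.Lib.Fusion.SylowIn
import Cfsg.Agent.Lib.Transfer.Focal
import Cfsg.Agent.Lib.PGroup.Basic

set_option autoImplicit false
open Cfsg

namespace Cfsg.Agent.AlperinFamily

variable {G : Type*} [Group G] {p : ℕ}

/-- `g H g⁻¹`. -/
abbrev cj (g : G) (H : Subgroup G) : Subgroup G := H.map (MulAut.conj g).toMonoidHom

/-- `N_S(U)` has index prime to `p` in `N_G(U)`. -/
abbrev FN (p : ℕ) (S U : Subgroup G) : Prop :=
  ¬ p ∣ (S ⊓ Subgroup.normalizer (U : Set G)).relIndex (Subgroup.normalizer (U : Set G))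

theorem mem_cj {H : Subgroup G} {g x : G} : x ∈ cj g H ↔ g⁻¹ * x * g ∈ H :=
  Transfer.mem_map_conj_iff

theorem conj_mem_cj {H : Subgroup G} (g : G) {x : G} (hx : x ∈ H) : g * x * g⁻¹ ∈ cj g H :=
  ⟨x, hx, rfl⟩

theorem cj_cj (H : Subgroup G) (g h : G) : cj h (cj g H) = cj (h * g) H :=
  Transfer.map_conj_map_conj H g h

theorem cj_one (H : Subgroup G) : cj 1 H = H := by
  ext x; simp [mem_cj]

theorem cj_eq_iff {H : Subgroup G} {g : G} :
    cj g H = H ↔ g ∈ Subgroup.normalizer (H : Set G) :=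
  Transfer.map_conj_eq_iff_mem_normalizer

theorem card_cj (g : G) (H : Subgroup G) : Nat.card (cj g H) = Nat.card H :=
  Subgroup.card_map_of_injective (MulAut.conj g).injective

theorem cj_normalizer (g : G) (H : Subgroup G) :
    cj g (Subgroup.normalizer (H : Set G)) = Subgroup.normalizer ((cj g H : Subgroup G) : Set G) :=
  Subgroup.map_equiv_normalizer_eq H (MulAut.conj g)

theorem cj_inf (g : G) (H K : Subgroup G) : cj g (H ⊓ K) = cj g H ⊓ cj g K :=
  Subgroup.map_inf _ _ _ (MulAut.conj g).injective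

theorem cj_le_normalizer (g : G) {H U : Subgroup G} (h : H ≤ Subgroup.normalizer (U : Set G)) :
    cj g H ≤ Subgroup.normalizer ((cj g U : Subgroup G) : Set G) :=
  (cj_normalizer g U).le.trans' (Subgroup.map_mono h)

theorem eq_of_sylowish [Finite G] [Fact p.Prime] {A B K : Subgroup G} (hAB : A ≤ B) (hBK : B ≤ K)
    (hB : IsPGroup p B) (h : ¬ p ∣ A.relIndex K) : A = B := by
  refine le_antisymm hAB ?_
  rw [← Subgroup.relIndex_eq_one]
  obtain ⟨n, hn⟩ := IsPGroup.iff_card.mp hB
  obtain ⟨j, -, hj⟩ := (Nat.dvd_prime_pow (Fact.out : p.Prime)).1 (hn ▸ Subgroup.relIndex_dvd_card (H := A) (K := B))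
  have hdvd : A.relIndex B ∣ A.relIndex K := ⟨_, (Subgroup.relIndex_mul_relIndex A B K hAB hBK).symm⟩
  cases j with
  | zero => simpa using hj
  | succ j => exact absurd ((hj ▸ dvd_pow_self p j.succ_ne_zero).trans hdvd) h

theorem fn_of_isSylowIn [Finite G] [Fact p.Prime] {S U Q : Subgroup G}
    (hQ : Fusion.IsSylowIn p Q (Subgroup.normalizer (U : Set G))) (hQS : Q ≤ S) : FN p S U := by
  intro hdvd
  obtain ⟨R, hR⟩ := (Fusion.isSylowIn_iff_exists hQ.1).1 hQ
  have h1 : Q.relIndex (Subgroup.normalizer (U : Set G)) = (R : Subgroup ↥(Subgroup.normalizer (U : Set G))).index := by rw [hR]; rfl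
  have h2 := hdvd.trans (Subgroup.relIndex_dvd_of_le_left (Subgroup.normalizer (U : Set G))
    (le_inf hQS hQ.1))
  exact R.not_dvd_index (h1 ▸ h2 : p ∣ (R : Subgroup ↥(Subgroup.normalizer (U : Set G))).index)

theorem isSylowIn_of_fn [Finite G] [Fact p.Prime] {S U : Subgroup G} (hS : IsPGroup p S)
    (h : FN p S U) :
    Fusion.IsSylowIn p (S ⊓ Subgroup.normalizer (U : Set G)) (Subgroup.normalizer (U : Set G)) :=
  ⟨inf_le_right, hS.to_inf_left, fun _ h1 h2 h3 => (eq_of_sylowish h1 h2 h3 h).symm⟩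

/-- Some conjugation carries `R ≤ N(U)` into `S` and `U` to a fully normalised subgroup. -/
theorem exists_conj_into_fn [Finite G] [Fact p.Prime] (S : Sylow p G) {U R : Subgroup G}
    (hR : IsPGroup p R) (hRN : R ≤ Subgroup.normalizer (U : Set G)) :
    ∃ h : G, cj h R ≤ (S : Subgroup G) ∧ FN p (S : Subgroup G) (cj h U) := by
  obtain ⟨Q, hRQ, hQ⟩ := Fusion.exists_isSylowIn_ge hR hRN
  obtain ⟨h, -, hh⟩ := (Fusion.IsSylowIn.exists_conj_le (A := ⊤) (B := (S : Subgroup G))
    ⟨le_top, S.isPGroup', fun C h1 _ h3 => S.is_maximal' h3 h1⟩ hQ.isPGroup le_top)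
  have hle : cj h Q ≤ (S : Subgroup G) := by
    rintro _ ⟨x, hx, rfl⟩; exact hh x hx
  refine ⟨h, (Subgroup.map_mono hRQ).trans hle, fn_of_isSylowIn (Q := cj h Q) ?_ hle⟩
  rw [← cj_normalizer]
  exact hQ.map (MulAut.conj h)

/-- A conjugation onto a fully normalised subgroup can be chosen to carry a `p`-subgroup of the
normalizer into `N_S`. -/
theorem exists_conj_sylow_step [Finite G] [Fact p.Prime] {S U T R : Subgroup G} (hS : IsPGroup p S)
    (hfn : FN p S U) (hR : IsPGroup p R) (hRN : R ≤ Subgroup.normalizer (T : Set G)) {g : G}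
    (hg : cj g T = U) : ∃ k ∈ Subgroup.normalizer (U : Set G), cj (k * g) R ≤ S ∧ cj (k * g) T = U := by
  have h1 : cj g R ≤ Subgroup.normalizer (U : Set G) := hg ▸ cj_le_normalizer g hRN
  obtain ⟨k, hk, hkR⟩ := (isSylowIn_of_fn hS hfn).exists_conj_le (hR.map _) h1
  refine ⟨k, hk, ?_, ?_⟩
  · rw [← cj_cj]
    rintro _ ⟨x, hx, rfl⟩
    exact (hkR x hx).1
  · rw [← cj_cj, hg, cj_eq_iff]
    exact hk

theorem exists_lt_inf_normalizer [Finite G] [Fact p.Prime] {S T : Subgroup G} (hS : IsPGroup p S)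
    (hTS : T ≤ S) (hne : T ≠ S) : T < S ⊓ Subgroup.normalizer (T : Set G) := by
  refine lt_of_le_of_ne (le_inf hTS Subgroup.le_normalizer) fun he => ?_
  have hne' : T.subgroupOf S ≠ ⊤ := fun h => hne (le_antisymm hTS (Subgroup.subgroupOf_eq_top.1 h))
  obtain ⟨x, hx, hxT⟩ := PGroup.exists_mem_normalizer_not_mem hS hne'
  refine hxT ?_
  rw [Subgroup.mem_subgroupOf, he]
  refine ⟨x.2, Subgroup.mem_normalizer_iff.2 fun y => ⟨fun hy => ?_, fun hy => ?_⟩⟩
  · exact (Subgroup.mem_normalizer_iff.1 hx ⟨y, hTS hy⟩).1 hy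
  · have hyS : y ∈ S := by
      have := S.mul_mem (S.mul_mem (S.inv_mem x.2) (hTS hy)) x.2
      simpa [mul_assoc] using this
    exact (Subgroup.mem_normalizer_iff.1 hx ⟨y, hyS⟩).2 hy

/-! ### Chains -/

/-- Conjugation of `A` by `g` (on the right) is done step by step in normalizers of members of `𝓕`. -/
inductive Steps (𝓕 : Set (Subgroup G)) : Set G → G → Prop
  | nil (A : Set G) : Steps 𝓕 A 1
  | cons {A : Set G} {g : G} (T : Subgroup G) (x : G) (hT : T ∈ 𝓕)
      (hx : x ∈ Subgroup.normalizer (T : Set G)) (hA : A ⊆ T)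
      (h : Steps 𝓕 ((fun a => x⁻¹ * a * x) '' A) g) : Steps 𝓕 A (x * g)

variable {𝓕 : Set (Subgroup G)}

theorem Steps.mono {A : Set G} {g : G} (h : Steps 𝓕 A g) : ∀ {B : Set G}, B ⊆ A → Steps 𝓕 B g := by
  induction h with
  | nil A => exact fun _ => Steps.nil _
  | cons T x hT hx hA _ ih => exact fun hB => Steps.cons T x hT hx (hB.trans hA) (ih (Set.image_mono hB))

theorem Steps.single {A : Set G} (T : Subgroup G) (x : G) (hT : T ∈ 𝓕)
    (hx : x ∈ Subgroup.normalizer (T : Set G)) (hA : A ⊆ T) : Steps 𝓕 A x := by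
  simpa using Steps.cons T x hT hx hA (Steps.nil _)

theorem image_conj_image (A : Set G) (x y : G) :
    (fun a => y⁻¹ * a * y) '' ((fun a => x⁻¹ * a * x) '' A) = (fun a => (x * y)⁻¹ * a * (x * y)) '' A := by
  rw [Set.image_image]
  congr 1
  ext a
  group

theorem Steps.comp {A : Set G} {g : G} (h : Steps 𝓕 A g) :
    ∀ {g' : G}, Steps 𝓕 ((fun a => g⁻¹ * a * g) '' A) g' → Steps 𝓕 A (g * g') := by
  induction h with
  | nil A => intro g' h'; simpa using h'
  | @cons A g T x hT hx hA _ ih =>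
    intro g' h'
    rw [mul_assoc]
    exact Steps.cons T x hT hx hA (ih (by rwa [image_conj_image]))

theorem Steps.inv {A : Set G} {g : G} (h : Steps 𝓕 A g) :
    Steps 𝓕 ((fun a => g⁻¹ * a * g) '' A) g⁻¹ := by
  induction h with
  | nil A => simpa using Steps.nil (𝓕 := 𝓕) _
  | @cons A g T x hT hx hA _ ih =>
    rw [image_conj_image] at ih
    have e : (x * g)⁻¹ = g⁻¹ * x⁻¹ := mul_inv_rev x g
    rw [e]
    rw [e] at ih
    refine ih.comp (Steps.single T x⁻¹ hT (inv_mem hx) ?_)
    rintro _ ⟨_, ⟨a, ha, rfl⟩, rfl⟩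
    have h1 := (Subgroup.mem_normalizer_iff''.1 hx a).1 (hA ha)
    have h2 : g⁻¹⁻¹ * (g⁻¹ * x⁻¹ * a * (x * g)) * g⁻¹ = x⁻¹ * a * x := by group
    simpa only [h2, SetLike.mem_coe] using h1

theorem steps_to_chain {A : Set G} {g : G} (h : Steps 𝓕 A g) :
    ∃ (n : ℕ) (T : Fin n → Subgroup G) (x : Fin n → G), (List.ofFn x).prod = g ∧
      (∀ i, T i ∈ 𝓕) ∧ (∀ i, x i ∈ Subgroup.normalizer ((T i : Subgroup G) : Set G)) ∧
      (∀ h : 0 < n, A ⊆ T ⟨0, h⟩) ∧
      ∀ (i : Fin n) (h : i.val + 1 < n),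
        (fun a => (((List.ofFn x).take (i.val + 1)).prod)⁻¹ * a * ((List.ofFn x).take (i.val + 1)).prod) '' A ⊆
          T ⟨i.val + 1, h⟩ := by
  induction h with
  | nil A => exact ⟨0, Fin.elim0, Fin.elim0, by simp, fun i => i.elim0, fun i => i.elim0,
      fun h => absurd h (lt_irrefl 0), fun i => i.elim0⟩
  | @cons A g T x hT hx hA _ ih =>
    obtain ⟨n, Ts, xs, hp, hTs, hxs, h0, hstep⟩ := ih
    refine ⟨n + 1, Fin.cons T Ts, Fin.cons x xs, ?_, ?_, ?_, fun _ => hA, ?_⟩
    · simp [List.ofFn_succ, hp]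
    · exact Fin.cases hT hTs
    · exact Fin.cases hx hxs
    · rintro ⟨i, hi⟩ hlt
      simp only at hlt ⊢
      have hlt' : i < n := by omega
      rw [List.ofFn_succ, List.take_succ_cons, List.prod_cons]
      simp only [Fin.cons_zero, Fin.cons_succ]
      rw [← image_conj_image]
      cases i with
      | zero =>
        simp only [Nat.zero_add, List.take_zero, List.prod_nil, inv_one, one_mul, mul_one, Set.image_id']
        exact h0 hlt'
      | succ j => exact hstep ⟨j, by omega⟩ hlt'

theorem chain_to_steps :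
    ∀ {n : ℕ} (A : Set G) (g : G) (T : Fin n → Subgroup G) (x : Fin n → G), (List.ofFn x).prod = g →
      (∀ i, T i ∈ 𝓕) → (∀ i, x i ∈ Subgroup.normalizer ((T i : Subgroup G) : Set G)) →
      (∀ h : 0 < n, A ⊆ T ⟨0, h⟩) →
      (∀ (i : Fin n) (h : i.val + 1 < n),
        (fun a => (((List.ofFn x).take (i.val + 1)).prod)⁻¹ * a * ((List.ofFn x).take (i.val + 1)).prod) '' A ⊆
          T ⟨i.val + 1, h⟩) → Steps 𝓕 A g := by
  intro n
  induction n with
  | zero => intro A g T x hp _ _ _ _; simp at hp; exact hp ▸ Steps.nil A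
  | succ n ih =>
    intro A g T x hp hT hx h0 hstep
    rw [List.ofFn_succ, List.prod_cons] at hp
    subst hp
    refine Steps.cons (T 0) (x 0) (hT 0) (hx 0) (h0 n.succ_pos)
      (ih _ _ (fun i => T i.succ) (fun i => x i.succ) rfl (fun i => hT _) (fun i => hx _) ?_ ?_)
    · intro h
      have := hstep 0 (by simpa using h)
      simpa [List.ofFn_succ] using this
    · rintro ⟨i, hi⟩ hlt
      have := hstep ⟨i + 1, by omega⟩ (by simpa using hlt)
      simp only [List.ofFn_succ, List.take_succ_cons, List.prod_cons] at this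
      rw [image_conj_image]
      exact this

theorem isConjugationFamily_of_steps {S : Subgroup G} (hS : ∀ T ∈ 𝓕, T ≤ S)
    (h : ∀ (A : Set G) (g : G), A ⊆ S → (fun a => g⁻¹ * a * g) '' A ⊆ S → Steps 𝓕 A g) :
    IsConjugationFamily 𝓕 S :=
  ⟨hS, fun A g _ hA hg => steps_to_chain (h A g hA hg)⟩

/-- A family with a fully normalised conjugate of every subgroup of `S` gives all chains. -/
theorem steps_of_reps [Finite G] [Fact p.Prime] (S : Sylow p G) (h𝓕 : ∀ U ∈ 𝓕, U ≤ (S : Subgroup G))
    (hrep : ∀ T : Subgroup G, T ≤ (S : Subgroup G) → ∃ U ∈ 𝓕, (∃ g : G, cj g T = U) ∧ FN p (S : Subgroup G) U)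
    (A : Set G) (g : G) (hA : A ⊆ (S : Subgroup G)) (hg : (fun a => g⁻¹ * a * g) '' A ⊆ (S : Subgroup G)) :
    Steps 𝓕 A g := by
  suffices h : ∀ (k : ℕ) (T : Subgroup G) (g : G), Nat.card G ≤ Nat.card T + k → T ≤ (S : Subgroup G) →
      cj g⁻¹ T ≤ (S : Subgroup G) → Steps 𝓕 (T : Set G) g by
    refine (h (Nat.card G) (Subgroup.closure A) g (Nat.le_add_left _ _) ((Subgroup.closure_le _).2 hA) ?_).mono
      Subgroup.subset_closure
    rw [Subgroup.map_le_iff_le_comap, Subgroup.closure_le]
    intro a ha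
    show g⁻¹ * a * g⁻¹⁻¹ ∈ (S : Subgroup G)
    rw [inv_inv]
    exact hg ⟨a, ha, rfl⟩
  intro k
  induction k with
  | zero =>
    intro T g hk hT hgT
    have hTtop : T = ⊤ := Subgroup.eq_top_of_le_card T (by simpa using hk)
    subst hTtop
    obtain ⟨U, hU, ⟨a, ha⟩, -⟩ := hrep ⊤ hT
    have : U = ⊤ := by rw [← ha, cj, Subgroup.map_top_of_surjective _ (MulAut.conj a).surjective]
    exact Steps.single U g hU (by rw [this]; exact Subgroup.le_normalizer (Subgroup.mem_top g)) (by simp [this])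
  | succ k ih =>
    intro T g hk hT hgT
    have himg : ∀ (y : G) (H : Subgroup G),
        (fun a => y⁻¹ * a * y) '' (H : Set G) = (cj y⁻¹ H : Set G) := by
      intro y H; ext z; simp [mul_assoc]
    obtain ⟨U, hU, ⟨a₀, ha₀⟩, hfn⟩ := hrep T hT
    rcases eq_or_ne T (S : Subgroup G) with hTS | hTS
    · have hUS : U = T := Subgroup.eq_of_le_of_card_ge (hTS ▸ h𝓕 U hU) (by rw [← ha₀, card_cj])
      have hg' : cj g⁻¹ T = T := Subgroup.eq_of_le_of_card_ge (hTS ▸ hgT) (by rw [card_cj])
      refine Steps.single U g hU ?_ (by rw [hUS])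
      rw [hUS]
      simpa using inv_mem (cj_eq_iff.1 hg')
    -- `T` is carried to `U` with `N_S(T)` landing in `S`
    have key : ∀ (T' : Subgroup G), T' ≤ (S : Subgroup G) → Nat.card T' = Nat.card T → T' ≠ (S : Subgroup G) →
        (∃ b, cj b T' = U) →
        ∃ b, cj b T' = U ∧ Steps 𝓕 ((((S : Subgroup G) ⊓ Subgroup.normalizer (T' : Set G) : Subgroup G)) : Set G) b⁻¹ := by
      rintro T' hT' hcard hne ⟨b₀, hb₀⟩
      obtain ⟨k', hk', hR, hT''⟩ := exists_conj_sylow_step S.isPGroup' hfn
        (S.isPGroup'.to_inf_left (K := Subgroup.normalizer (T' : Set G))) inf_le_right hb₀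
      refine ⟨k' * b₀, hT'', ih _ _ ?_ inf_le_left (by rwa [inv_inv])⟩
      have : Nat.card T' < Nat.card ((S : Subgroup G) ⊓ Subgroup.normalizer (T' : Set G) : Subgroup G) :=
        Set.ncard_lt_ncard (exists_lt_inf_normalizer S.isPGroup' hT' hne) (Set.toFinite _)
      omega
    obtain ⟨a, ha, hsa⟩ := key T hT rfl hTS ⟨a₀, ha₀⟩
    set T' := cj g⁻¹ T with hT'def
    have hne' : T' ≠ (S : Subgroup G) := fun he => hTS (Subgroup.eq_of_le_of_card_ge hT (by
      rw [← he, card_cj]))
    obtain ⟨b, hb, hsb⟩ := key T' hgT (card_cj _ _) hne' ⟨a₀ * g, by rw [hT'def, cj_cj]; simpa using ha₀⟩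
    -- `g = a⁻¹ * (a g b⁻¹) * b`
    have h1 : Steps 𝓕 (T : Set G) a⁻¹ := hsa.mono (le_inf hT Subgroup.le_normalizer)
    have e1 : (fun z => a⁻¹⁻¹ * z * a⁻¹) '' (T : Set G) = (U : Set G) := by
      rw [himg, inv_inv, ha]
    have hm : a * g * b⁻¹ ∈ Subgroup.normalizer (U : Set G) := by
      have : cj (b * g⁻¹ * a⁻¹) U = U := by
        conv_lhs => rw [← ha]
        rw [cj_cj, show b * g⁻¹ * a⁻¹ * a = b * g⁻¹ by group, ← cj_cj, ← hT'def, hb]
      have := inv_mem (cj_eq_iff.1 this)
      simpa [mul_assoc] using this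
    have h2 : Steps 𝓕 (T : Set G) (a⁻¹ * (a * g * b⁻¹)) :=
      h1.comp (by rw [e1]; exact Steps.single U _ hU hm subset_rfl)
    have h3 : Steps 𝓕 (T : Set G) (a⁻¹ * (a * g * b⁻¹) * b) := by
      refine h2.comp ?_
      have h4 := (hsb.mono (le_inf hgT Subgroup.le_normalizer : T' ≤ _)).inv
      rw [himg, inv_inv, hT'def, cj_cj] at h4
      rw [himg, show (a⁻¹ * (a * g * b⁻¹))⁻¹ = b * g⁻¹ by group]
      exact h4
    simpa [mul_assoc] using h3

/-! ### Conjugacy functors, towers, well-placed subgroups -/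

variable {W : Subgroup G → Subgroup G}

theorem functor_cj (hW : IsConjugacyFunctor p W) {P : Subgroup G} (hP : IsPGroup p P) (g : G) :
    W (cj g P) = cj g (W P) :=
  (hW P hP).2.2 g

theorem normalizer_le_normalizer_functor (hW : IsConjugacyFunctor p W) {P : Subgroup G} (hP : IsPGroup p P) :
    Subgroup.normalizer (P : Set G) ≤ Subgroup.normalizer ((W P : Subgroup G) : Set G) := by
  intro g hg
  rw [← cj_eq_iff] at hg ⊢
  rw [← functor_cj hW hP, hg]

theorem le_normalizer_functor (hW : IsConjugacyFunctor p W) {P : Subgroup G} (hP : IsPGroup p P) :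
    P ≤ Subgroup.normalizer ((W P : Subgroup G) : Set G) :=
  Subgroup.le_normalizer.trans (normalizer_le_normalizer_functor hW hP)

theorem functorTower_le (hW : IsConjugacyFunctor p W) {S T : Subgroup G} (hS : IsPGroup p S) (hT : T ≤ S) :
    ∀ i, functorTower W S T i ≤ S := by
  intro i
  cases i with
  | zero => exact hT
  | succ i => exact (hW _ hS.to_inf_left).1.trans inf_le_left

theorem functorTower_succ (W : Subgroup G → Subgroup G) (S T : Subgroup G) (i : ℕ) :
    functorTower W S T (i + 1) = W (S ⊓ Subgroup.normalizer ((functorTower W S T i : Subgroup G) : Set G)) :=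
  rfl

theorem functorTower_shift (W : Subgroup G → Subgroup G) (S T : Subgroup G) :
    ∀ i, functorTower W S (functorTower W S T 1) i = functorTower W S T (i + 1) := by
  intro i
  induction i with
  | zero => rfl
  | succ i ih => rw [functorTower_succ, ih]; rfl

theorem inf_normalizer_tower_mono (hW : IsConjugacyFunctor p W) {S T : Subgroup G} (hS : IsPGroup p S) (i : ℕ) :
    S ⊓ Subgroup.normalizer ((functorTower W S T i : Subgroup G) : Set G) ≤
      S ⊓ Subgroup.normalizer ((functorTower W S T (i + 1) : Subgroup G) : Set G) :=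
  le_inf inf_le_left (le_normalizer_functor hW hS.to_inf_left)

theorem exists_wellPlaced_conj_normalizer [Finite G] [Fact p.Prime] (S : Sylow p G) (hW : IsConjugacyFunctor p W)
    (T : Subgroup G) (hT : T ≤ (S : Subgroup G)) :
    ∃ g : G, IsWellPlaced p W (S : Subgroup G) (cj g T) ∧
      cj g ((S : Subgroup G) ⊓ Subgroup.normalizer (T : Set G)) ≤ (S : Subgroup G) := by
  let R : Subgroup G → ℕ → Subgroup G := fun T i =>
    (S : Subgroup G) ⊓ Subgroup.normalizer ((functorTower W (S : Subgroup G) T i : Subgroup G) : Set G)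
  have main : ∀ n, ∃ g : G, (cj g T ≤ (S : Subgroup G) ∧ cj g (R T 0) ≤ (S : Subgroup G)) ∧
      ∀ i < n, FN p (S : Subgroup G) (functorTower W (S : Subgroup G) (cj g T) i) := by
    intro n
    induction n with
    | zero =>
      exact ⟨1, ⟨by rwa [cj_one], by rw [cj_one]; exact inf_le_left⟩, fun i hi => absurd hi i.not_lt_zero⟩
    | succ n ih =>
      obtain ⟨g, ⟨hgS, hgR⟩, hfn⟩ := ih
      set T₁ := cj g T
      obtain ⟨h, hhR, hhfn⟩ := exists_conj_into_fn S
        (S.isPGroup'.to_inf_left : IsPGroup p (R T₁ n)) inf_le_right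
      have hmono : ∀ j ≤ n, R T₁ j ≤ R T₁ n := fun j hj =>
        monotone_nat_of_le_succ (inf_normalizer_tower_mono hW S.isPGroup') hj
      have htow : ∀ j ≤ n, functorTower W (S : Subgroup G) (cj h T₁) j =
          cj h (functorTower W (S : Subgroup G) T₁ j) := by
        intro j
        induction j with
        | zero => intro _; rfl
        | succ j ih =>
          intro hj
          rw [functorTower_succ, functorTower_succ, ← functor_cj hW S.isPGroup'.to_inf_left,
            ih (by omega)]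
          congr 1
          refine (eq_of_sylowish ?_ inf_le_right S.isPGroup'.to_inf_left ?_).symm
          · exact le_inf ((Subgroup.map_mono (hmono j (by omega))).trans hhR)
              (cj_le_normalizer h inf_le_right)
          · rw [← cj_normalizer]
            have h2 : ∀ K L : Subgroup G, (cj h K).relIndex (cj h L) = K.relIndex L := fun K L =>
              Subgroup.relIndex_map_map_of_injective K L (MulAut.conj h).injective
            rw [h2]
            exact hfn j (by omega)
      refine ⟨h * g, ⟨?_, ?_⟩, fun j hj => ?_⟩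
      rotate_left
      · rw [← cj_cj]
        refine (Subgroup.map_mono ?_).trans hhR
        exact (le_inf hgR (cj_le_normalizer g inf_le_right) : cj g (R T 0) ≤ R T₁ 0).trans (hmono 0 n.zero_le)
      rotate_left
      · rw [← cj_cj]
        refine (Subgroup.map_mono ?_).trans hhR
        exact (le_inf hgS Subgroup.le_normalizer : T₁ ≤ R T₁ 0).trans (hmono 0 n.zero_le)
      · rw [← cj_cj, htow j (by omega)]
        rcases Nat.lt_or_ge j n with hjn | hjn
        · -- already fully normalised: `h` carries `N_S` into `S`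
          intro hdvd
          refine hfn j hjn ?_
          have h2 : ((cj h ((S : Subgroup G) ⊓ Subgroup.normalizer
              ((functorTower W (S : Subgroup G) T₁ j : Subgroup G) : Set G)))).relIndex
              (cj h (Subgroup.normalizer ((functorTower W (S : Subgroup G) T₁ j : Subgroup G) : Set G))) = _ :=
            Subgroup.relIndex_map_map_of_injective _ _ (MulAut.conj h).injective
          rw [← h2, cj_normalizer]
          exact hdvd.trans (Subgroup.relIndex_dvd_of_le_left _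
            (le_inf ((Subgroup.map_mono (hmono j (by omega))).trans hhR) (cj_le_normalizer h inf_le_right)))
        · obtain rfl : j = n := by omega
          exact hhfn
  obtain ⟨g, ⟨hgS, hgR⟩, hfn⟩ := main (Nat.card G + 3)
  refine ⟨g, ⟨hgS, fun i => ?_⟩, hgR⟩
  have hex : ∃ j ≤ Nat.card G + 1, R (cj g T) j = R (cj g T) (j + 1) := by
    by_contra hno
    push Not at hno
    have : ∀ j ≤ Nat.card G + 1, j ≤ Nat.card (R (cj g T) j) := by
      intro j hj
      induction j with
      | zero => exact Nat.zero_le _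
      | succ j ih =>
        have hlt : R (cj g T) j < R (cj g T) (j + 1) :=
          lt_of_le_of_ne (inf_normalizer_tower_mono hW S.isPGroup' j) (hno j (by omega))
        have := ih (by omega)
        have : Nat.card (R (cj g T) j) < Nat.card (R (cj g T) (j + 1)) :=
          Set.ncard_lt_ncard hlt (Set.toFinite _)
        omega
    have h1 := this (Nat.card G + 1) le_rfl
    have h2 := Subgroup.card_le_card_group (R (cj g T) (Nat.card G + 1))
    omega
  obtain ⟨j, hj, hjR⟩ := hex
  have hconst : ∀ m, functorTower W (S : Subgroup G) (cj g T) (j + 1 + m) =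
      functorTower W (S : Subgroup G) (cj g T) (j + 1) := by
    intro m
    induction m with
    | zero => rfl
    | succ m ih =>
      rw [← Nat.add_assoc, functorTower_succ, functorTower_succ, ih]
      exact congrArg W hjR.symm
  rcases Nat.lt_or_ge i (j + 1) with hi | hi
  · exact hfn i (by omega)
  · obtain ⟨m, rfl⟩ := Nat.exists_eq_add_of_le hi
    rw [hconst]
    exact hfn (j + 1) (by omega)

theorem exists_wellPlaced_conj [Finite G] [Fact p.Prime] (S : Sylow p G) (hW : IsConjugacyFunctor p W)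
    (T : Subgroup G) (hT : T ≤ (S : Subgroup G)) :
    ∃ g : G, IsWellPlaced p W (S : Subgroup G) (cj g T) :=
  let ⟨g, hg, _⟩ := exists_wellPlaced_conj_normalizer S hW T hT
  ⟨g, hg⟩

theorem wellPlaced_steps [Finite G] [Fact p.Prime] (S : Sylow p G) (hW : IsConjugacyFunctor p W)
    (A : Set G) (g : G) (hA : A ⊆ (S : Subgroup G)) (hg : (fun a => g⁻¹ * a * g) '' A ⊆ (S : Subgroup G)) :
    Steps {T : Subgroup G | IsWellPlaced p W (S : Subgroup G) T} A g :=
  steps_of_reps S (fun _ hU => hU.1)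
    (fun T hT => let ⟨h, hh⟩ := exists_wellPlaced_conj S hW T hT; ⟨_, hh, ⟨h, rfl⟩, hh.2 0⟩) A g hA hg

end Cfsg.Agent.AlperinFamily
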