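/-
Local-to-global control of strong fusion and of transfer by sets of conjugacy functors.

Main results (namespace `Cfsg.Agent.AlperinFamily`):
* `exists_conj_sylowish`, `familyControlsStrongFusion_at`, `familyControlsTransfer_at` : the Sylow subgroup in
  the definitions of control may be chosen freely;
* `Moves`, `Reach`, `familyControlsStrongFusionIn_top`, `familyControlsTransferIn_top`;
* `controlsStrongFusionIn_iff_family`, `controlsTransferIn_iff_family`, `fn_reps`.
-/
import Cfsg.Agent.Lib.AlperinFamily.Basic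

set_option autoImplicit false
open Cfsg
open scoped commutatorElement

namespace Cfsg.Agent.AlperinFamily

variable {G : Type*} [Group G] {p : ℕ} {𝓦 : Set (Subgroup G → Subgroup G)}

theorem cj_eq_of_mem {H : Subgroup G} {c : G} (hc : c ∈ H) : cj c H = H :=
  cj_eq_iff.2 (Subgroup.le_normalizer hc)

theorem cj_commutator (g : G) (H K : Subgroup G) : cj g ⁅H, K⁆ = ⁅cj g H, cj g K⁆ :=
  Subgroup.map_commutator H K _

theorem exists_conj_sylowish [Finite G] [Fact p.Prime] {H T R : Subgroup G}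
    (hT : T ≤ H) (hTp : IsPGroup p T) (hTd : ¬ p ∣ T.relIndex H)
    (hR : R ≤ H) (hRp : IsPGroup p R) (hRd : ¬ p ∣ R.relIndex H) : ∃ c ∈ H, cj c T = R := by
  have h1 : Fusion.IsSylowIn p T H := ⟨hT, hTp, fun C a b d => (eq_of_sylowish a b d hTd).symm⟩
  have h2 : Fusion.IsSylowIn p R H := ⟨hR, hRp, fun C a b d => (eq_of_sylowish a b d hRd).symm⟩
  obtain ⟨c, hc, hcT⟩ := h2.exists_conj_le hTp hT
  refine ⟨c, hc, Subgroup.eq_of_le_of_card_ge ?_ ?_⟩
  · rintro _ ⟨x, hx, rfl⟩; exact hcT x hx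
  · rw [card_cj]; exact h1.card_ge hRp hR

theorem familyControlsStrongFusion_at [Finite G] [Fact p.Prime] (h𝓦 : ∀ W ∈ 𝓦, IsConjugacyFunctor p W)
    {H R : Subgroup G} (hR : R ≤ H) (hRp : IsPGroup p R) (hRd : ¬ p ∣ R.relIndex H)
    (hctl : FamilyControlsStrongFusionIn p 𝓦 H) (A : Set G) (h : G) (hh : h ∈ H) (hA : A ⊆ R)
    (hAh : (fun a => h * a * h⁻¹) '' A ⊆ R) :
    ∃ (n : ℕ) (c : Fin (n + 1) → G), c 0 = 1 ∧
        (∀ i : Fin n, ∃ W ∈ 𝓦,
          c i.succ * (c i.castSucc)⁻¹ ∈ H ⊓ Subgroup.normalizer ((W R : Subgroup G) : Set G)) ∧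
        (∀ i : Fin (n + 1), (fun a => c i * a * (c i)⁻¹) '' A ⊆ R) ∧
        ∀ a ∈ A, c (Fin.last n) * a * (c (Fin.last n))⁻¹ = h * a * h⁻¹ := by
  obtain ⟨T, hT, hTp, hTd, hT'⟩ := hctl
  obtain ⟨d, hd, rfl⟩ := exists_conj_sylowish hT hTp hTd hR hRp hRd
  have hdT : ∀ x ∈ (cj d T : Subgroup G), d⁻¹ * x * d ∈ T := fun x hx => mem_cj.1 hx
  obtain ⟨n, c, hc0, hcW, hcT, hce⟩ := hT' ((fun a => d⁻¹ * a * d) '' A) (d⁻¹ * h * d)
    (mul_mem (mul_mem (inv_mem hd) hh) hd)
    (by rintro _ ⟨a, ha, rfl⟩; exact hdT a (hA ha))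
    (by
      rintro _ ⟨_, ⟨a, ha, rfl⟩, rfl⟩
      have := hdT _ (hAh ⟨a, ha, rfl⟩)
      simp only [SetLike.mem_coe]
      convert this using 1
      group)
  refine ⟨n, fun i => d * c i * d⁻¹, by simp [hc0], fun i => ?_, fun i => ?_, fun a ha => ?_⟩
  · obtain ⟨W, hW, hWc⟩ := hcW i
    refine ⟨W, hW, ?_⟩
    have : d * (c i.succ * (c i.castSucc)⁻¹) * d⁻¹ ∈
        cj d (H ⊓ Subgroup.normalizer ((W T : Subgroup G) : Set G)) := conj_mem_cj d hWc
    rw [cj_inf, cj_eq_of_mem hd, cj_normalizer, ← functor_cj (h𝓦 W hW) hTp] at this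
    convert this using 1
    group
  · rintro _ ⟨a, ha, rfl⟩
    have := conj_mem_cj d (hcT i ⟨_, ⟨a, ha, rfl⟩, rfl⟩)
    simp only [SetLike.mem_coe]
    convert this using 1
    group
  · have := congrArg (fun x => d * x * d⁻¹) (hce _ ⟨a, ha, rfl⟩)
    convert this using 1 <;> group

theorem familyControlsTransfer_at [Finite G] [Fact p.Prime] (h𝓦 : ∀ W ∈ 𝓦, IsConjugacyFunctor p W)
    {H R : Subgroup G} (hR : R ≤ H) (hRp : IsPGroup p R) (hRd : ¬ p ∣ R.relIndex H)
    (hctl : FamilyControlsTransferIn p 𝓦 H) :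
    R ⊓ ⁅H, H⁆ = ⨆ W ∈ 𝓦, R ⊓ ⁅H ⊓ Subgroup.normalizer ((W R : Subgroup G) : Set G),
      H ⊓ Subgroup.normalizer ((W R : Subgroup G) : Set G)⁆ := by
  obtain ⟨T, hT, hTp, hTd, hT'⟩ := hctl
  obtain ⟨d, hd, rfl⟩ := exists_conj_sylowish hT hTp hTd hR hRp hRd
  have h1 := congrArg (cj d) hT'
  rw [cj_inf, cj_commutator, cj_eq_of_mem hd] at h1
  rw [h1]
  simp only [cj, Subgroup.map_iSup]
  refine iSup_congr fun W => iSup_congr fun hW => ?_
  show cj d _ = _
  rw [cj_inf, cj_commutator, cj_inf, cj_eq_of_mem hd, cj_normalizer, ← functor_cj (h𝓦 W hW) hTp]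

/-! ### Moves -/

/-- Conjugation of `A` inside `S` by a product of elements of `L`. -/
inductive Moves (L : Set G) (S : Subgroup G) (A : Set G) : G → Prop
  | refl (hA : A ⊆ S) : Moves L S A 1
  | step {c : G} (z : G) (h : Moves L S A c) (hz : z ∈ L)
      (hS : (fun a => z * c * a * (z * c)⁻¹) '' A ⊆ S) : Moves L S A (z * c)

/-- The map induced by `g` on `A` is reached by moves. -/
def Reach (L : Set G) (S : Subgroup G) (A : Set G) (g : G) : Prop :=
  ∃ c, Moves L S A c ∧ ∀ a ∈ A, c * a * c⁻¹ = g * a * g⁻¹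

variable {L : Set G} {S : Subgroup G}

theorem Moves.subset {A : Set G} {c : G} (h : Moves L S A c) : A ⊆ S := by
  induction h with
  | refl hA => exact hA
  | step _ _ _ _ ih => exact ih

theorem Moves.mono {A : Set G} {c : G} (h : Moves L S A c) : ∀ {B : Set G}, B ⊆ A → Moves L S B c := by
  induction h with
  | refl hA => exact fun hB => Moves.refl (hB.trans hA)
  | step z _ hz hS ih => exact fun hB => Moves.step z (ih hB) hz ((Set.image_mono hB).trans hS)

theorem Moves.image_subset {A : Set G} {c : G} (h : Moves L S A c) :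
    (fun a => c * a * c⁻¹) '' A ⊆ S := by
  cases h with
  | refl hA => simpa using hA
  | step z _ _ hS => exact hS

theorem Moves.comp {A : Set G} {c d : G} (h : Moves L S A c)
    (h' : Moves L S ((fun a => c * a * c⁻¹) '' A) d) : Moves L S A (d * c) := by
  induction h' with
  | refl _ => rwa [one_mul]
  | @step e z _ hz hS ih =>
    rw [mul_assoc]
    refine Moves.step z ih hz ?_
    rintro _ ⟨a, ha, rfl⟩
    have := hS ⟨_, ⟨a, ha, rfl⟩, rfl⟩
    simp only [SetLike.mem_coe] at this ⊢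
    convert this using 1
    group

theorem Moves.inv {A : Set G} {c : G} (hL : ∀ z ∈ L, z⁻¹ ∈ L) (h : Moves L S A c) :
    Moves L S ((fun a => c * a * c⁻¹) '' A) c⁻¹ := by
  induction h with
  | refl hA => simpa using Moves.refl (L := L) hA
  | @step e z h hz hS ih =>
    have h1 : Moves L S ((fun a => z * e * a * (z * e)⁻¹) '' A) z⁻¹ := by
      simpa using Moves.step z⁻¹ (Moves.refl hS) (hL z hz) (by
        rintro _ ⟨_, ⟨a, ha, rfl⟩, rfl⟩
        have := h.image_subset ⟨a, ha, rfl⟩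
        simp only [SetLike.mem_coe] at this ⊢
        convert this using 1
        group)
    rw [show (z * e)⁻¹ = e⁻¹ * z⁻¹ by group] at *
    refine h1.comp (?_)
    rw [Set.image_image]
    convert ih using 2
    group

theorem Reach.refl {A : Set G} (hA : A ⊆ S) : Reach L S A 1 :=
  ⟨1, Moves.refl hA, fun _ _ => rfl⟩

theorem Reach.congr {A : Set G} {g g' : G} (h : Reach L S A g)
    (e : ∀ a ∈ A, g * a * g⁻¹ = g' * a * g'⁻¹) : Reach L S A g' :=
  let ⟨c, hc, hce⟩ := h
  ⟨c, hc, fun a ha => (hce a ha).trans (e a ha)⟩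

theorem Reach.mono {A B : Set G} {g : G} (h : Reach L S A g) (hB : B ⊆ A) : Reach L S B g :=
  let ⟨c, hc, hce⟩ := h
  ⟨c, hc.mono hB, fun a ha => hce a (hB ha)⟩

theorem Reach.comp {A : Set G} {g g' : G} (h : Reach L S A g)
    (h' : Reach L S ((fun a => g * a * g⁻¹) '' A) g') : Reach L S A (g' * g) := by
  obtain ⟨c, hc, hce⟩ := h
  obtain ⟨d, hd, hde⟩ := h'
  have e : (fun a => c * a * c⁻¹) '' A = (fun a => g * a * g⁻¹) '' A := Set.image_congr hce
  refine ⟨d * c, hc.comp (e ▸ hd), fun a ha => ?_⟩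
  have := hde _ ⟨a, ha, rfl⟩
  calc d * c * a * (d * c)⁻¹ = d * (c * a * c⁻¹) * d⁻¹ := by group
    _ = g' * (g * a * g⁻¹) * g'⁻¹ := by rw [hce a ha, this]
    _ = g' * g * a * (g' * g)⁻¹ := by group

theorem Reach.inv {A : Set G} {g : G} (hL : ∀ z ∈ L, z⁻¹ ∈ L) (h : Reach L S A g) :
    Reach L S ((fun a => g * a * g⁻¹) '' A) g⁻¹ := by
  obtain ⟨c, hc, hce⟩ := h
  have e : (fun a => c * a * c⁻¹) '' A = (fun a => g * a * g⁻¹) '' A := Set.image_congr hce
  refine ⟨c⁻¹, e ▸ hc.inv hL, ?_⟩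
  rintro _ ⟨a, ha, rfl⟩
  calc c⁻¹ * (g * a * g⁻¹) * c⁻¹⁻¹ = c⁻¹ * (c * a * c⁻¹) * c⁻¹⁻¹ := by rw [hce a ha]
    _ = g⁻¹ * (g * a * g⁻¹) * g⁻¹⁻¹ := by group

/-- A chain of elements gives `Reach` as soon as each step is reachable. -/
theorem Reach.of_chain {A : Set G} {n : ℕ} (c : Fin (n + 1) → G) (h0 : c 0 = 1) (hA : A ⊆ S)
    (hstep : ∀ i : Fin n, Reach L S ((fun a => c i.castSucc * a * (c i.castSucc)⁻¹) '' A)
      (c i.succ * (c i.castSucc)⁻¹)) : ∀ i : Fin (n + 1), Reach L S A (c i) := by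
  intro i
  induction i using Fin.induction with
  | zero => rw [h0]; exact Reach.refl hA
  | succ j ih => simpa [mul_assoc] using ih.comp (hstep j)

theorem Moves.exists_chain {A : Set G} {g : G} (h : Moves L S A g) :
    ∃ (n : ℕ) (c : Fin (n + 1) → G), c 0 = 1 ∧ (∀ i : Fin n, c i.succ * (c i.castSucc)⁻¹ ∈ L) ∧
      (∀ i : Fin (n + 1), (fun a => c i * a * (c i)⁻¹) '' A ⊆ S) ∧ c (Fin.last n) = g := by
  induction h with
  | refl hA => exact ⟨0, fun _ => 1, rfl, fun i => i.elim0, fun _ => by simpa using hA, rfl⟩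
  | @step e z _ hz hS ih =>
    obtain ⟨n, c, h0, hL, hA, hlast⟩ := ih
    refine ⟨n + 1, Fin.snoc c (z * e), ?_, ?_, ?_, Fin.snoc_last _ _⟩
    · rw [show (0 : Fin (n + 1 + 1)) = Fin.castSucc 0 from rfl, Fin.snoc_castSucc, h0]
    · intro i
      induction i using Fin.lastCases with
      | last => simpa [Fin.succ_last, hlast] using hz
      | cast j => rw [Fin.succ_castSucc, Fin.snoc_castSucc, Fin.snoc_castSucc]; exact hL j
    · intro i
      induction i using Fin.lastCases with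
      | last => simpa using hS
      | cast j => simpa using hA j

/-! ### Local to global -/

theorem fn_reps [Finite G] [Fact p.Prime] (S : Sylow p G) (U : Subgroup G) (_hU : U ≤ (S : Subgroup G)) :
    ∃ h : G, cj h ((S : Subgroup G) ⊓ Subgroup.normalizer (U : Set G)) ≤ (S : Subgroup G) ∧
      FN p (S : Subgroup G) (cj h U) :=
  exists_conj_into_fn S S.isPGroup'.to_inf_left inf_le_right

theorem steps_of_good [Finite G] [Fact p.Prime] (S : Sylow p G) (P : Subgroup G → Prop)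
    (hP : ∀ T, P T → FN p (S : Subgroup G) T)
    (hrep : ∀ U : Subgroup G, U ≤ (S : Subgroup G) → ∃ h : G,
      cj h ((S : Subgroup G) ⊓ Subgroup.normalizer (U : Set G)) ≤ (S : Subgroup G) ∧ P (cj h U))
    (A : Set G) (g : G) (hA : A ⊆ (S : Subgroup G)) (hg : (fun a => g⁻¹ * a * g) '' A ⊆ (S : Subgroup G)) :
    Steps {T : Subgroup G | T ≤ (S : Subgroup G) ∧ P T} A g :=
  steps_of_reps (𝓕 := {T : Subgroup G | T ≤ (S : Subgroup G) ∧ P T}) S (fun _ hU => hU.1) (fun T hT =>
    let ⟨h, hh, hPh⟩ := hrep T hT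
    ⟨cj h T, ⟨(Subgroup.map_mono (le_inf hT Subgroup.le_normalizer)).trans hh, hPh⟩, ⟨h, rfl⟩, hP _ hPh⟩) A g hA hg

theorem reach_of_steps {A : Set G} {g : G} {𝓕 : Set (Subgroup G)} (S : Subgroup G) {m : ℕ}
    (hS : ∀ T ∈ 𝓕, T ≤ S)
    (hgood : ∀ T ∈ 𝓕, (∃ B : Set G, B ⊆ T ∧ B.ncard = m) → ∀ (B : Set G), B ⊆ T →
      ∀ x ∈ Subgroup.normalizer (T : Set G), Reach L S B x)
    (h : Steps 𝓕 A g) : A.ncard = m → A ⊆ S → Reach L S A g⁻¹ := by
  induction h with
  | nil A => intro _ hA; simpa using Reach.refl hA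
  | @cons A g T x hT hx hA _ ih =>
    intro hm _
    have hinj : Function.Injective (fun a : G => x⁻¹ * a * x) := fun a b e => by simpa using e
    have e : (fun a => x⁻¹ * a * x⁻¹⁻¹) '' A = (fun a => x⁻¹ * a * x) '' A := by simp
    rw [mul_inv_rev]
    refine (hgood T hT ⟨A, hA, hm⟩ A hA x⁻¹ (inv_mem hx)).comp ?_
    rw [e]
    refine ih (by rw [Set.ncard_image_of_injective _ hinj, hm]) ?_
    rintro _ ⟨a, ha, rfl⟩
    exact hS T hT ((Subgroup.mem_normalizer_iff''.1 hx a).1 (hA ha))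

theorem reach_of_local [Finite G] [Fact p.Prime] (S : Sylow p G) (h𝓦 : ∀ W ∈ 𝓦, IsConjugacyFunctor p W)
    (P : Subgroup G → Prop) (hP : ∀ T, P T → FN p (S : Subgroup G) T)
    (hrep : ∀ U : Subgroup G, U ≤ (S : Subgroup G) → ∃ h : G,
      cj h ((S : Subgroup G) ⊓ Subgroup.normalizer (U : Set G)) ≤ (S : Subgroup G) ∧ P (cj h U))
    (hloc : ∀ T : Subgroup G, T ≤ (S : Subgroup G) → T ≠ ⊥ → P T →
      FamilyControlsStrongFusionIn p 𝓦 (Subgroup.normalizer (T : Set G)))
    {U : Subgroup G} (hU : U ≤ (S : Subgroup G)) (hU1 : U ≠ ⊥) (B : Set G) (z : G)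
    (hB : B ⊆ ((S : Subgroup G) ⊓ Subgroup.normalizer (U : Set G) : Subgroup G))
    (hz : z ∈ Subgroup.normalizer (U : Set G)) (hzB : (fun a => z * a * z⁻¹) '' B ⊆ (S : Subgroup G)) :
    Reach {z | ∃ W ∈ 𝓦, z ∈ Subgroup.normalizer ((W (S : Subgroup G) : Subgroup G) : Set G)}
      (S : Subgroup G) B z := by
  suffices key : ∀ (k : ℕ) (U : Subgroup G),
      Nat.card G - Nat.card ((S : Subgroup G) ⊓ Subgroup.normalizer (U : Set G) : Subgroup G) = k →
      U ≤ (S : Subgroup G) → U ≠ ⊥ → ∀ (B : Set G) (z : G),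
      B ⊆ ((S : Subgroup G) ⊓ Subgroup.normalizer (U : Set G) : Subgroup G) →
      z ∈ Subgroup.normalizer (U : Set G) → (fun a => z * a * z⁻¹) '' B ⊆ (S : Subgroup G) →
      Reach {z | ∃ W ∈ 𝓦, z ∈ Subgroup.normalizer ((W (S : Subgroup G) : Subgroup G) : Set G)}
        (S : Subgroup G) B z from key _ U rfl hU hU1 B z hB hz hzB
  intro k
  induction k using Nat.strong_induction_on with
  | _ k IH =>
  intro U hk hU hU1
  set L := {z | ∃ W ∈ 𝓦, z ∈ Subgroup.normalizer ((W (S : Subgroup G) : Subgroup G) : Set G)}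
  have hL : ∀ z ∈ L, z⁻¹ ∈ L := fun z ⟨W, hW, hz⟩ => ⟨W, hW, inv_mem hz⟩
  set R := (S : Subgroup G) ⊓ Subgroup.normalizer (U : Set G) with hR
  have bigger : ∀ U' : Subgroup G, U' ≤ (S : Subgroup G) → U' ≠ ⊥ →
      Nat.card R < Nat.card ((S : Subgroup G) ⊓ Subgroup.normalizer (U' : Set G) : Subgroup G) →
      ∀ (B : Set G) (z : G), B ⊆ ((S : Subgroup G) ⊓ Subgroup.normalizer (U' : Set G) : Subgroup G) →
      z ∈ Subgroup.normalizer (U' : Set G) → (fun a => z * a * z⁻¹) '' B ⊆ (S : Subgroup G) →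
      Reach L (S : Subgroup G) B z := fun U' hU' hU1' hlt => by
    refine IH _ ?_ U' rfl hU' hU1'
    have := Subgroup.card_le_card_group ((S : Subgroup G) ⊓ Subgroup.normalizer (U' : Set G))
    omega
  obtain ⟨h, hhR, hPh⟩ := hrep U hU
  set U' := cj h U
  set R' := (S : Subgroup G) ⊓ Subgroup.normalizer (U' : Set G)
  have hRR' : cj h R ≤ R' := le_inf hhR (cj_le_normalizer h inf_le_right)
  have hU' : U' ≤ (S : Subgroup G) := (Subgroup.map_mono (le_inf hU Subgroup.le_normalizer)).trans hhR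
  have hcardRR' : Nat.card R ≤ Nat.card R' := card_cj h R ▸ Subgroup.card_le_of_le hRR'
  have hU1' : U' ≠ ⊥ := fun e => hU1 ((Subgroup.map_eq_bot_iff_of_injective _ (MulAut.conj h).injective).1 e)
  -- moves inside the normalizer of `U'`
  have main : ∀ (B : Set G) (z : G), B ⊆ R' → z ∈ Subgroup.normalizer (U' : Set G) →
      (fun a => z * a * z⁻¹) '' B ⊆ (S : Subgroup G) → Reach L (S : Subgroup G) B z := by
    intro B z hB hz hzB
    have hzB' : (fun a => z * a * z⁻¹) '' B ⊆ R' := by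
      rintro _ ⟨a, ha, rfl⟩
      exact ⟨hzB ⟨a, ha, rfl⟩, Subgroup.mul_mem _ (Subgroup.mul_mem _ hz (hB ha).2) (Subgroup.inv_mem _ hz)⟩
    obtain ⟨n, c, h0, hcW, hcR, hce⟩ := familyControlsStrongFusion_at h𝓦 inf_le_right
      (S.isPGroup'.to_inf_left) (hP _ hPh) (hloc U' hU' hU1' hPh) B z hz hB hzB'
    refine (Reach.of_chain c h0 (hB.trans fun a ha => ha.1) (fun i => ?_) (Fin.last n)).congr hce
    obtain ⟨W, hW, hc⟩ := hcW i
    have e : (fun a => c i.succ * (c i.castSucc)⁻¹ * a * (c i.succ * (c i.castSucc)⁻¹)⁻¹) ''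
        ((fun a => c i.castSucc * a * (c i.castSucc)⁻¹) '' B) = (fun a => c i.succ * a * (c i.succ)⁻¹) '' B := by
      rw [Set.image_image]
      congr 1; funext a; group
    have hsrc := hcR i.castSucc
    have htgt := e.le.trans (hcR i.succ)
    by_cases hR'S : R' = (S : Subgroup G)
    · refine ⟨c i.succ * (c i.castSucc)⁻¹, ?_, fun _ _ => rfl⟩
      have := Moves.step (L := L) (c i.succ * (c i.castSucc)⁻¹)
        (Moves.refl (hsrc.trans fun a ha => ha.1)) ⟨W, hW, hR'S ▸ hc.2⟩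
        (by rw [mul_one]; exact htgt.trans fun a ha => ha.1)
      rwa [mul_one] at this
    · have hR'p : IsPGroup p R' := S.isPGroup'.to_inf_left
      have hlt : R' < (S : Subgroup G) ⊓ Subgroup.normalizer ((W R' : Subgroup G) : Set G) :=
        (exists_lt_inf_normalizer S.isPGroup' inf_le_left hR'S).trans_le
          (inf_le_inf_left _ (normalizer_le_normalizer_functor (h𝓦 W hW) hR'p))
      refine bigger _ ((h𝓦 W hW _ hR'p).1.trans inf_le_left) ((h𝓦 W hW _ hR'p).2.1 ?_) ?_ _ _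
        (hsrc.trans hlt.le) hc.2 (htgt.trans fun a ha => ha.1)
      · exact fun e => hU1' (le_bot_iff.1 (e ▸ le_inf hU' Subgroup.le_normalizer))
      · exact hcardRR'.trans_lt (Set.ncard_lt_ncard hlt (Set.toFinite _))
  intro B z hB hz hzB
  by_cases hfn : P U
  · -- `U` is good itself
    obtain ⟨n, c, h0, hcW, hcR, hce⟩ := familyControlsStrongFusion_at h𝓦 inf_le_right
      (S.isPGroup'.to_inf_left) (hP _ hfn) (hloc U hU hU1 hfn) B z hz hB (by
        rintro _ ⟨a, ha, rfl⟩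
        exact ⟨hzB ⟨a, ha, rfl⟩, Subgroup.mul_mem _ (Subgroup.mul_mem _ hz (hB ha).2) (Subgroup.inv_mem _ hz)⟩)
    refine (Reach.of_chain c h0 (hB.trans fun a ha => ha.1) (fun i => ?_) (Fin.last n)).congr hce
    obtain ⟨W, hW, hc⟩ := hcW i
    have e : (fun a => c i.succ * (c i.castSucc)⁻¹ * a * (c i.succ * (c i.castSucc)⁻¹)⁻¹) ''
        ((fun a => c i.castSucc * a * (c i.castSucc)⁻¹) '' B) = (fun a => c i.succ * a * (c i.succ)⁻¹) '' B := by
      rw [Set.image_image]
      congr 1; funext a; group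
    have hsrc := hcR i.castSucc
    have htgt := e.le.trans (hcR i.succ)
    by_cases hRS : R = (S : Subgroup G)
    · refine ⟨c i.succ * (c i.castSucc)⁻¹, ?_, fun _ _ => rfl⟩
      have := Moves.step (L := L) (c i.succ * (c i.castSucc)⁻¹)
        (Moves.refl (hsrc.trans fun a ha => ha.1)) ⟨W, hW, hRS ▸ hc.2⟩
        (by rw [mul_one]; exact htgt.trans fun a ha => ha.1)
      rwa [mul_one] at this
    · have hRp : IsPGroup p R := S.isPGroup'.to_inf_left
      have hlt : R < (S : Subgroup G) ⊓ Subgroup.normalizer ((W R : Subgroup G) : Set G) :=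
        (exists_lt_inf_normalizer S.isPGroup' inf_le_left hRS).trans_le
          (inf_le_inf_left _ (normalizer_le_normalizer_functor (h𝓦 W hW) hRp))
      refine bigger _ ((h𝓦 W hW _ hRp).1.trans inf_le_left) ((h𝓦 W hW _ hRp).2.1 ?_) ?_ _ _
        (hsrc.trans hlt.le) hc.2 (htgt.trans fun a ha => ha.1)
      · exact fun e => hU1 (le_bot_iff.1 (e ▸ le_inf hU Subgroup.le_normalizer))
      · exact Set.ncard_lt_ncard hlt (Set.toFinite _)
  -- the map `h` on `R` is reached
  have hreach : Reach L (S : Subgroup G) (R : Set G) h := by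
    by_cases hR'big : R = (S : Subgroup G)
    · -- then `h` normalizes `S`, and `S` itself is good
      have hS : cj h (S : Subgroup G) = (S : Subgroup G) :=
        Subgroup.eq_of_le_of_card_ge (by rw [hR'big] at hRR'; exact hRR'.trans inf_le_left) (by rw [card_cj])
      have hS1 : (S : Subgroup G) ≠ ⊥ := fun e => hU1 (le_bot_iff.1 (e ▸ hU))
      obtain ⟨t, ht, hPt⟩ := hrep (S : Subgroup G) le_rfl
      rw [inf_eq_left.2 Subgroup.le_normalizer] at ht
      have hSt : cj t (S : Subgroup G) = (S : Subgroup G) :=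
        Subgroup.eq_of_le_of_card_ge ht (by rw [card_cj])
      rw [hSt] at hPt
      have hh : h ∈ Subgroup.normalizer ((S : Subgroup G) : Set G) := cj_eq_iff.1 hS
      obtain ⟨n, c, h0, hcW, hcR, hce⟩ := familyControlsStrongFusion_at h𝓦 Subgroup.le_normalizer
        S.isPGroup' (by
          have := hP _ hPt
          rwa [FN, inf_eq_left.2 (Subgroup.le_normalizer (H := (S : Subgroup G)))] at this)
        (hloc _ le_rfl hS1 hPt) (R : Set G) h hh (fun a ha => ha.1)
        (by rintro _ ⟨a, ha, rfl⟩; exact hhR ⟨a, ha, rfl⟩)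
      refine (Reach.of_chain c h0 (fun a ha => ha.1) (fun i => ?_) (Fin.last n)).congr hce
      obtain ⟨W, hW, hc⟩ := hcW i
      refine ⟨c i.succ * (c i.castSucc)⁻¹, ?_, fun _ _ => rfl⟩
      have := Moves.step (L := L) (c i.succ * (c i.castSucc)⁻¹) (Moves.refl (hcR i.castSucc)) ⟨W, hW, hc.2⟩
        (by
          rw [mul_one, Set.image_image]
          refine le_trans (le_of_eq ?_) (hcR i.succ)
          congr 1; funext a; group)
      rwa [mul_one] at this
    · have hst := steps_of_good S P hP hrep (R : Set G) h⁻¹ (fun a ha => ha.1)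
        (by rintro _ ⟨a, ha, rfl⟩; rw [inv_inv]; exact hhR ⟨a, ha, rfl⟩)
      have hres := reach_of_steps (L := L) (S : Subgroup G) (m := Nat.card R) (fun T hT => hT.1)
        (fun T hT ⟨B₀, hB₀, hcard⟩ B hB x hx => by
          have hle : Nat.card R ≤ Nat.card T := hcard ▸ Set.ncard_le_ncard hB₀ (Set.toFinite _)
          have hT1 : T ≠ ⊥ := by
            intro e
            rw [e, Subgroup.card_bot] at hle
            have : R = ⊥ := Subgroup.card_eq_one.1 (le_antisymm hle Nat.card_pos)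
            exact hU1 (le_bot_iff.1 (this ▸ le_inf hU Subgroup.le_normalizer))
          refine bigger T hT.1 hT1 ?_ B x (hB.trans (le_inf hT.1 Subgroup.le_normalizer)) hx ?_
          · by_cases hTS : T = (S : Subgroup G)
            · rw [hTS, inf_eq_left.2 Subgroup.le_normalizer]
              exact Set.ncard_lt_ncard (lt_of_le_of_ne inf_le_left hR'big : R < (S : Subgroup G)) (Set.toFinite _)
            · exact hle.trans_lt (Set.ncard_lt_ncard (exists_lt_inf_normalizer S.isPGroup' hT.1 hTS)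
                (Set.toFinite _))
          · rintro _ ⟨a, ha, rfl⟩
            exact hT.1 ((Subgroup.mem_normalizer_iff.1 hx a).1 (hB ha)))
        hst (Nat.card_coe_set_eq _).symm (fun a ha => ha.1)
      rwa [inv_inv] at hres
  have h1 : Reach L (S : Subgroup G) B h := hreach.mono hB
  have h2 : Reach L (S : Subgroup G) ((fun a => h * a * h⁻¹) '' B) (h * z * h⁻¹) := by
    refine main _ _ ?_ ?_ ?_
    · rintro _ ⟨a, ha, rfl⟩; exact hRR' ⟨a, hB ha, rfl⟩
    · show _ ∈ Subgroup.normalizer ((cj h U : Subgroup G) : Set G)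
      rw [← cj_normalizer]; exact conj_mem_cj h hz
    · rintro _ ⟨_, ⟨a, ha, rfl⟩, rfl⟩
      have := hhR ⟨z * a * z⁻¹, ⟨hzB ⟨a, ha, rfl⟩, Subgroup.mul_mem _ (Subgroup.mul_mem _ hz (hB ha).2) (Subgroup.inv_mem _ hz)⟩, rfl⟩
      simp only [SetLike.mem_coe] at this ⊢
      convert this using 1
      show h * z * h⁻¹ * (h * a * h⁻¹) * (h * z * h⁻¹)⁻¹ = h * (z * a * z⁻¹) * h⁻¹
      group
  have h3 : Reach L (S : Subgroup G) ((fun a => h * z * a * (h * z)⁻¹) '' B) h⁻¹ := by
    have h4 : Reach L (S : Subgroup G) ((fun a => z * a * z⁻¹) '' B) h := hreach.mono (by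
      rintro _ ⟨a, ha, rfl⟩
      exact ⟨hzB ⟨a, ha, rfl⟩, Subgroup.mul_mem _ (Subgroup.mul_mem _ hz (hB ha).2) (Subgroup.inv_mem _ hz)⟩)
    have h5 := h4.inv hL
    rw [Set.image_image] at h5
    convert h5 using 2
    group
  have h12 := h1.comp h2
  have e12 : h * z * h⁻¹ * h = h * z := by group
  rw [e12] at h12
  have := h12.comp h3
  rwa [show h⁻¹ * (h * z) = z by group] at this

theorem familyControlsStrongFusionIn_top [Finite G] [Fact p.Prime] (S : Sylow p G)
    (h𝓦 : ∀ W ∈ 𝓦, IsConjugacyFunctor p W)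
    (P : Subgroup G → Prop) (hP : ∀ T, P T → FN p (S : Subgroup G) T)
    (hrep : ∀ U : Subgroup G, U ≤ (S : Subgroup G) → ∃ h : G,
      cj h ((S : Subgroup G) ⊓ Subgroup.normalizer (U : Set G)) ≤ (S : Subgroup G) ∧ P (cj h U))
    (hloc : ∀ T : Subgroup G, T ≤ (S : Subgroup G) → T ≠ ⊥ → P T →
      FamilyControlsStrongFusionIn p 𝓦 (Subgroup.normalizer (T : Set G))) :
    FamilyControlsStrongFusionIn p 𝓦 ⊤ := by
  refine ⟨S, le_top, S.isPGroup', by rw [Subgroup.relIndex_top_right]; exact S.not_dvd_index,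
    fun A g _ hA hgA => ?_⟩
  set L := {z | ∃ W ∈ 𝓦, z ∈ Subgroup.normalizer ((W (S : Subgroup G) : Subgroup G) : Set G)}
  have key : ∀ (B : Set G) (y : G), Steps {T : Subgroup G | T ≤ (S : Subgroup G) ∧ P T} B y →
      B ⊆ (S : Subgroup G) → Reach L (S : Subgroup G) B y⁻¹ := by
    intro B y hst hB
    refine reach_of_steps (m := B.ncard) (S : Subgroup G) (fun T hT => hT.1)
      (fun T hT _ C hC x hx => ?_) hst rfl hB
    by_cases hT1 : T = ⊥
    · subst hT1
      refine ⟨1, Moves.refl (hC.trans hT.1), fun a ha => ?_⟩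
      have : a = 1 := hC ha
      simp [this]
    · refine reach_of_local S h𝓦 P hP hrep hloc hT.1 hT1 C x (hC.trans (le_inf hT.1 Subgroup.le_normalizer)) hx ?_
      rintro _ ⟨a, ha, rfl⟩
      exact hT.1 ((Subgroup.mem_normalizer_iff.1 hx a).1 (hC ha))
  have := key A g⁻¹ (steps_of_good S P hP hrep A g⁻¹ hA (by rw [inv_inv]; exact hgA)) hA
  rw [inv_inv] at this
  obtain ⟨c, hc, hce⟩ := this
  obtain ⟨n, d, h0, hL, hd, hlast⟩ := hc.exists_chain
  exact ⟨n, d, h0, fun i => let ⟨W, hW, hh⟩ := hL i; ⟨W, hW, trivial, hh⟩, hd, hlast ▸ hce⟩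

theorem diff_mem_of_steps {A : Set G} {g : G} {𝓕 : Set (Subgroup G)} {F : Subgroup G} {m : ℕ}
    (hgood : ∀ T ∈ 𝓕, (∃ B : Set G, B ⊆ T ∧ B.ncard = m) →
      T ⊓ ⁅Subgroup.normalizer (T : Set G), Subgroup.normalizer (T : Set G)⁆ ≤ F)
    (h : Steps 𝓕 A g) : A.ncard = m → ∀ a ∈ A, a⁻¹ * (g⁻¹ * a * g) ∈ F := by
  induction h with
  | nil A => intro _ a _; simp
  | @cons A g T x hT hx hA _ ih =>
    intro hm a ha
    have hinj : Function.Injective (fun a : G => x⁻¹ * a * x) := fun a b e => by simpa using e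
    have h1 : a⁻¹ * (x⁻¹ * a * x) ∈ F := by
      refine hgood T hT ⟨A, hA, hm⟩ ⟨Subgroup.mul_mem _ (Subgroup.inv_mem _ (hA ha)) ((Subgroup.mem_normalizer_iff''.1 hx a).1 (hA ha)), ?_⟩
      have : ⁅a⁻¹, x⁻¹⁆ ∈ ⁅Subgroup.normalizer (T : Set G), Subgroup.normalizer (T : Set G)⁆ :=
        Subgroup.commutator_mem_commutator (inv_mem (Subgroup.le_normalizer (hA ha))) (inv_mem hx)
      simpa [commutatorElement_def, mul_assoc] using this
    have h2 := ih (by rw [Set.ncard_image_of_injective _ hinj, hm]) _ ⟨a, ha, rfl⟩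
    have := mul_mem h1 h2
    convert this using 1
    group

theorem inf_commutator_le_of_local [Finite G] [Fact p.Prime] (S : Sylow p G)
    (h𝓦 : ∀ W ∈ 𝓦, IsConjugacyFunctor p W)
    (P : Subgroup G → Prop) (hP : ∀ T, P T → FN p (S : Subgroup G) T)
    (hrep : ∀ U : Subgroup G, U ≤ (S : Subgroup G) → ∃ h : G,
      cj h ((S : Subgroup G) ⊓ Subgroup.normalizer (U : Set G)) ≤ (S : Subgroup G) ∧ P (cj h U))
    (hloc : ∀ T : Subgroup G, T ≤ (S : Subgroup G) → T ≠ ⊥ → P T →
      FamilyControlsTransferIn p 𝓦 (Subgroup.normalizer (T : Set G))) :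
    (S : Subgroup G) ⊓ ⁅(⊤ : Subgroup G), (⊤ : Subgroup G)⁆ ≤ ⨆ W ∈ 𝓦, (S : Subgroup G) ⊓
      ⁅(⊤ : Subgroup G) ⊓ Subgroup.normalizer ((W (S : Subgroup G) : Subgroup G) : Set G),
        (⊤ : Subgroup G) ⊓ Subgroup.normalizer ((W (S : Subgroup G) : Subgroup G) : Set G)⁆ := by
  set F := ⨆ W ∈ 𝓦, (S : Subgroup G) ⊓
      ⁅(⊤ : Subgroup G) ⊓ Subgroup.normalizer ((W (S : Subgroup G) : Subgroup G) : Set G),
        (⊤ : Subgroup G) ⊓ Subgroup.normalizer ((W (S : Subgroup G) : Subgroup G) : Set G)⁆ with hF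
  have key : ∀ (k : ℕ) (U : Subgroup G),
      Nat.card G - Nat.card ((S : Subgroup G) ⊓ Subgroup.normalizer (U : Set G) : Subgroup G) = k →
      U ≤ (S : Subgroup G) → U ≠ ⊥ → (S : Subgroup G) ⊓ Subgroup.normalizer (U : Set G) ⊓
        ⁅Subgroup.normalizer (U : Set G), Subgroup.normalizer (U : Set G)⁆ ≤ F := by
    intro k
    induction k using Nat.strong_induction_on with
    | _ k IH =>
    intro U hk hU hU1
    set R := (S : Subgroup G) ⊓ Subgroup.normalizer (U : Set G) with hR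
    have bigger : ∀ U' : Subgroup G, U' ≤ (S : Subgroup G) → U' ≠ ⊥ →
        Nat.card R < Nat.card ((S : Subgroup G) ⊓ Subgroup.normalizer (U' : Set G) : Subgroup G) →
        (S : Subgroup G) ⊓ Subgroup.normalizer (U' : Set G) ⊓
          ⁅Subgroup.normalizer (U' : Set G), Subgroup.normalizer (U' : Set G)⁆ ≤ F := fun U' hU' hU1' hlt => by
      refine IH _ ?_ U' rfl hU' hU1'
      have := Subgroup.card_le_card_group ((S : Subgroup G) ⊓ Subgroup.normalizer (U' : Set G))
      omega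
    -- the good case
    have main : ∀ U' : Subgroup G, U' ≤ (S : Subgroup G) → U' ≠ ⊥ → P U' →
        Nat.card R ≤ Nat.card ((S : Subgroup G) ⊓ Subgroup.normalizer (U' : Set G) : Subgroup G) →
        (S : Subgroup G) ⊓ Subgroup.normalizer (U' : Set G) ⊓
          ⁅Subgroup.normalizer (U' : Set G), Subgroup.normalizer (U' : Set G)⁆ ≤ F := by
      intro U' hU' hU1' hP' hcard
      set R' := (S : Subgroup G) ⊓ Subgroup.normalizer (U' : Set G) with hR'
      have hR'p : IsPGroup p R' := S.isPGroup'.to_inf_left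
      rw [familyControlsTransfer_at h𝓦 inf_le_right hR'p (hP _ hP') (hloc U' hU' hU1' hP')]
      refine iSup₂_le fun W hW => ?_
      by_cases hR'S : R' = (S : Subgroup G)
      · refine le_trans ?_ (le_iSup₂ (f := fun W (_ : W ∈ 𝓦) => (S : Subgroup G) ⊓
          ⁅(⊤ : Subgroup G) ⊓ Subgroup.normalizer ((W (S : Subgroup G) : Subgroup G) : Set G),
            (⊤ : Subgroup G) ⊓ Subgroup.normalizer ((W (S : Subgroup G) : Subgroup G) : Set G)⁆) W hW)
        refine inf_le_inf inf_le_left ?_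
        rw [show (S : Subgroup G) ⊓ Subgroup.normalizer (U' : Set G) = (S : Subgroup G) from hR'S]
        exact Subgroup.commutator_mono (inf_le_inf_right _ le_top) (inf_le_inf_right _ le_top)
      · have hlt : R' < (S : Subgroup G) ⊓ Subgroup.normalizer ((W R' : Subgroup G) : Set G) :=
          (exists_lt_inf_normalizer S.isPGroup' inf_le_left hR'S).trans_le
            (inf_le_inf_left _ (normalizer_le_normalizer_functor (h𝓦 W hW) hR'p))
        refine le_trans (inf_le_inf hlt.le (Subgroup.commutator_mono inf_le_right inf_le_right))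
          (bigger _ ((h𝓦 W hW _ hR'p).1.trans inf_le_left) ((h𝓦 W hW _ hR'p).2.1 ?_) ?_)
        · exact fun e => hU1' (le_bot_iff.1 (e ▸ le_inf hU' Subgroup.le_normalizer))
        · exact hcard.trans_lt (Set.ncard_lt_ncard hlt (Set.toFinite _))
    by_cases hPU : P U
    · exact main U hU hU1 hPU le_rfl
    obtain ⟨h, hhR, hPh⟩ := hrep U hU
    have hRR' : cj h R ≤ (S : Subgroup G) ⊓ Subgroup.normalizer ((cj h U : Subgroup G) : Set G) :=
      le_inf hhR (cj_le_normalizer h inf_le_right)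
    have hU1' : cj h U ≠ ⊥ := fun e =>
      hU1 ((Subgroup.map_eq_bot_iff_of_injective _ (MulAut.conj h).injective).1 e)
    have hmain := main (cj h U) ((Subgroup.map_mono (le_inf hU Subgroup.le_normalizer)).trans hhR) hU1' hPh
      (card_cj h R ▸ Subgroup.card_le_of_le hRR')
    intro a ha
    have h1 : h * a * h⁻¹ ∈ F := by
      refine hmain ⟨hRR' ⟨a, ha.1, rfl⟩, ?_⟩
      rw [← cj_normalizer, ← cj_commutator]
      exact conj_mem_cj h ha.2
    by_cases hRS : R = (S : Subgroup G)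
    · -- `h` normalizes `S`
      have hS : cj h (S : Subgroup G) = (S : Subgroup G) :=
        Subgroup.eq_of_le_of_card_ge (by rw [hRS] at hRR'; exact hRR'.trans inf_le_left) (by rw [card_cj])
      have hS1 : (S : Subgroup G) ≠ ⊥ := fun e => hU1 (le_bot_iff.1 (e ▸ hU))
      obtain ⟨t, ht, hPt⟩ := hrep (S : Subgroup G) le_rfl
      rw [inf_eq_left.2 Subgroup.le_normalizer] at ht
      rw [Subgroup.eq_of_le_of_card_ge ht (by rw [card_cj])] at hPt
      have h2 : a⁻¹ * (h * a * h⁻¹) ∈ F := by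
        refine main (S : Subgroup G) le_rfl hS1 hPt ?_ ⟨?_, ?_⟩
        · rw [inf_eq_left.2 Subgroup.le_normalizer]; exact Subgroup.card_le_of_le inf_le_left
        · have : h * a * h⁻¹ ∈ (S : Subgroup G) := hhR ⟨a, ha.1, rfl⟩
          exact ⟨Subgroup.mul_mem _ (Subgroup.inv_mem _ ha.1.1) this,
            Subgroup.le_normalizer (Subgroup.mul_mem _ (Subgroup.inv_mem _ ha.1.1) this)⟩
        · have : ⁅a⁻¹, h⁆ ∈ ⁅Subgroup.normalizer ((S : Subgroup G) : Set G),
              Subgroup.normalizer ((S : Subgroup G) : Set G)⁆ :=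
            Subgroup.commutator_mem_commutator (inv_mem (Subgroup.le_normalizer ha.1.1)) (cj_eq_iff.1 hS)
          simpa [commutatorElement_def, mul_assoc] using this
      have := mul_mem h1 (inv_mem h2)
      rwa [show h * a * h⁻¹ * (a⁻¹ * (h * a * h⁻¹))⁻¹ = a by group] at this
    · have hst := steps_of_good S P hP hrep (R : Set G) h⁻¹ (fun a ha => ha.1)
        (by rintro _ ⟨b, hb, rfl⟩; rw [inv_inv]; exact hhR ⟨b, hb, rfl⟩)
      have h2 := diff_mem_of_steps (F := F) (m := Nat.card R) (fun T hT ⟨B₀, hB₀, hcard⟩ => by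
          have hle : Nat.card R ≤ Nat.card T := hcard ▸ Set.ncard_le_ncard hB₀ (Set.toFinite _)
          have hT1 : T ≠ ⊥ := by
            intro e
            rw [e, Subgroup.card_bot] at hle
            have : R = ⊥ := Subgroup.card_eq_one.1 (le_antisymm hle Nat.card_pos)
            exact hU1 (le_bot_iff.1 (this ▸ le_inf hU Subgroup.le_normalizer))
          refine (inf_le_inf_right _ (le_inf hT.1 Subgroup.le_normalizer)).trans (bigger T hT.1 hT1 ?_)
          by_cases hTS : T = (S : Subgroup G)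
          · rw [hTS, inf_eq_left.2 Subgroup.le_normalizer]
            exact Set.ncard_lt_ncard (lt_of_le_of_ne inf_le_left hRS : R < (S : Subgroup G)) (Set.toFinite _)
          · exact hle.trans_lt (Set.ncard_lt_ncard (exists_lt_inf_normalizer S.isPGroup' hT.1 hTS)
              (Set.toFinite _)))
        hst (Nat.card_coe_set_eq _).symm a ha.1
      rw [inv_inv] at h2
      have := mul_mem h1 (inv_mem h2)
      rwa [show h * a * h⁻¹ * (a⁻¹ * (h * a * h⁻¹))⁻¹ = a by group] at this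
  rw [← commutator_def, inf_comm,
    ← Transfer.focalSubgroup_eq_of_coprime _ (Transfer.coprime_index_relIndex_sylow S),
    Subgroup.focalSubgroup_def, Subgroup.closure_le]
  rintro _ ⟨hxu, x, hx, u, rfl⟩
  have hu : u * x⁻¹ * u⁻¹ ∈ (S : Subgroup G) := by
    have := mul_mem (inv_mem hx) hxu
    simpa [commutatorElement_def, mul_assoc] using this
  have hst := steps_of_good S P hP hrep {x⁻¹} u⁻¹ (Set.singleton_subset_iff.2 (inv_mem hx)) (by rw [Set.image_singleton, inv_inv]; exact Set.singleton_subset_iff.2 hu)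
  have := diff_mem_of_steps (F := F) (m := 1) (fun T hT _ => by
    by_cases hT1 : T = ⊥
    · subst hT1; simp
    · exact (inf_le_inf_right _ (le_inf hT.1 Subgroup.le_normalizer)).trans (key _ T rfl hT.1 hT1))
    hst (Set.ncard_singleton _) x⁻¹ rfl
  simpa [commutatorElement_def, mul_assoc] using this

theorem familyControlsTransferIn_top [Finite G] [Fact p.Prime] (S : Sylow p G)
    (h𝓦 : ∀ W ∈ 𝓦, IsConjugacyFunctor p W)
    (P : Subgroup G → Prop) (hP : ∀ T, P T → FN p (S : Subgroup G) T)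
    (hrep : ∀ U : Subgroup G, U ≤ (S : Subgroup G) → ∃ h : G,
      cj h ((S : Subgroup G) ⊓ Subgroup.normalizer (U : Set G)) ≤ (S : Subgroup G) ∧ P (cj h U))
    (hloc : ∀ T : Subgroup G, T ≤ (S : Subgroup G) → T ≠ ⊥ → P T →
      FamilyControlsTransferIn p 𝓦 (Subgroup.normalizer (T : Set G))) :
    FamilyControlsTransferIn p 𝓦 ⊤ :=
  ⟨S, le_top, S.isPGroup', by rw [Subgroup.relIndex_top_right]; exact S.not_dvd_index,
    le_antisymm (inf_commutator_le_of_local S h𝓦 P hP hrep hloc)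
      (iSup₂_le fun _ _ => inf_le_inf_left _ (Subgroup.commutator_mono inf_le_left inf_le_left))⟩

theorem controlsStrongFusionIn_iff_family {W : Subgroup G → Subgroup G} {H : Subgroup G} :
    ControlsStrongFusionIn p W H ↔ FamilyControlsStrongFusionIn p {W} H := by
  constructor
  · rintro ⟨T, hT, hTp, hTd, h⟩
    refine ⟨T, hT, hTp, hTd, fun A g hg hA hgA => ?_⟩
    obtain ⟨x, hx, hxe⟩ := h A g hg hA hgA
    refine ⟨1, ![1, x], rfl, fun i => ⟨W, rfl, ?_⟩, fun i => ?_, fun a ha => hxe a ha⟩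
    · fin_cases i; simpa using hx
    · fin_cases i
      · simpa using hA
      · rintro _ ⟨a, ha, rfl⟩
        show x * a * x⁻¹ ∈ T
        exact hxe a ha ▸ hgA ⟨a, ha, rfl⟩
  · rintro ⟨T, hT, hTp, hTd, h⟩
    refine ⟨T, hT, hTp, hTd, fun A g hg hA hgA => ?_⟩
    obtain ⟨n, c, h0, hc, -, hce⟩ := h A g hg hA hgA
    refine ⟨c (Fin.last n), ?_, hce⟩
    suffices ∀ i, c i ∈ H ⊓ Subgroup.normalizer ((W T : Subgroup G) : Set G) from this _
    intro i
    induction i using Fin.induction with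
    | zero => rw [h0]; exact one_mem _
    | succ j ih =>
      obtain ⟨W', rfl, hj⟩ := hc j
      simpa using mul_mem hj ih

theorem controlsTransferIn_iff_family {W : Subgroup G → Subgroup G} {H : Subgroup G} :
    ControlsTransferIn p W H ↔ FamilyControlsTransferIn p {W} H := by
  simp [ControlsTransferIn, FamilyControlsTransferIn]

end Cfsg.Agent.AlperinFamily
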