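import Cfsg.Agent.Lib.AlperinFamily.Control

/-!
Local-to-global control where the local hypothesis is only available for normalizers of subgroups containing a
fixed subgroup `Z` centralising the Sylow subgroup (namespace `Cfsg.Agent.AlperinFamily`).

* `steps_of_reps_above`, `steps_of_good_above`: chains through subgroups above `Z`
* `reach_of_local_above`, `reach_of_above`: reaching maps defined on sets generating a subgroup above `Z`
-/

set_option autoImplicit false
open Cfsg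
open scoped commutatorElement

namespace Cfsg.Agent.AlperinFamily

variable {G : Type*} [Group G] {p : ℕ} {𝓦 : Set (Subgroup G → Subgroup G)} {𝓕 : Set (Subgroup G)}

theorem steps_of_reps_above [Finite G] [Fact p.Prime] (S : Sylow p G) {Z : Subgroup G}
    (hZN : ∀ U : Subgroup G, U ≤ (S : Subgroup G) → Z ≤ (S : Subgroup G) ⊓ Subgroup.normalizer (U : Set G)) (h𝓕 : ∀ U ∈ 𝓕, U ≤ (S : Subgroup G))
    (hrep : ∀ T : Subgroup G, Z ≤ T → T ≤ (S : Subgroup G) → ∃ U ∈ 𝓕, (∃ g : G, cj g T = U) ∧ FN p (S : Subgroup G) U)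
    (A : Set G) (g : G) (hZA : Z ≤ Subgroup.closure A) (hA : A ⊆ (S : Subgroup G)) (hg : (fun a => g⁻¹ * a * g) '' A ⊆ (S : Subgroup G)) :
    Steps 𝓕 A g := by
  suffices h : ∀ (k : ℕ) (T : Subgroup G) (g : G), Nat.card G ≤ Nat.card T + k → Z ≤ T → T ≤ (S : Subgroup G) →
      cj g⁻¹ T ≤ (S : Subgroup G) → Steps 𝓕 (T : Set G) g by
    refine (h (Nat.card G) (Subgroup.closure A) g (Nat.le_add_left _ _) hZA ((Subgroup.closure_le _).2 hA) ?_).mono
      Subgroup.subset_closure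
    rw [Subgroup.map_le_iff_le_comap, Subgroup.closure_le]
    intro a ha
    show g⁻¹ * a * g⁻¹⁻¹ ∈ (S : Subgroup G)
    rw [inv_inv]
    exact hg ⟨a, ha, rfl⟩
  intro k
  induction k with
  | zero =>
    intro T g hk hZT hT hgT
    have hTtop : T = ⊤ := Subgroup.eq_top_of_le_card T (by simpa using hk)
    subst hTtop
    obtain ⟨U, hU, ⟨a, ha⟩, -⟩ := hrep ⊤ hZT hT
    have : U = ⊤ := by rw [← ha, cj, Subgroup.map_top_of_surjective _ (MulAut.conj a).surjective]
    exact Steps.single U g hU (by rw [this]; exact Subgroup.le_normalizer (Subgroup.mem_top g)) (by simp [this])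
  | succ k ih =>
    intro T g hk hZT hT hgT
    have himg : ∀ (y : G) (H : Subgroup G),
        (fun a => y⁻¹ * a * y) '' (H : Set G) = (cj y⁻¹ H : Set G) := by
      intro y H; ext z; simp [mul_assoc]
    obtain ⟨U, hU, ⟨a₀, ha₀⟩, hfn⟩ := hrep T hZT hT
    rcases eq_or_ne T (S : Subgroup G) with hTS | hTS
    · have hUS : U = T := Subgroup.eq_of_le_of_card_ge (hTS ▸ h𝓕 U hU) (by rw [← ha₀, card_cj])
      have hg' : cj g⁻¹ T = T := Subgroup.eq_of_le_of_card_ge (hTS ▸ hgT) (by rw [card_cj])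
      refine Steps.single U g hU ?_ (by rw [hUS])
      rw [hUS]
      simpa using inv_mem (cj_eq_iff.1 hg')
    -- `T` is carried to `U` with `N_S(T)` landing in `S`
    have key : ∀ (T' : Subgroup G), T' ≤ (S : Subgroup G) → Nat.card T' = Nat.card T → T' ≠ (S : Subgroup G) →
        (∃ b, cj b T' = U) →
        ∃ b, cj b T' = U ∧ Steps 𝓕 ((((S : Subgroup G) ⊓ Subgroup.normalizer (T' : Set G) : Subgroup G)) : Set G) b⁻¹ := by
      rintro T' hT' hcard hne ⟨b₀, hb₀⟩
      obtain ⟨k', hk', hR, hT''⟩ := exists_conj_sylow_step S.isPGroup' hfn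
        (S.isPGroup'.to_inf_left (K := Subgroup.normalizer (T' : Set G))) inf_le_right hb₀
      refine ⟨k' * b₀, hT'', ih _ _ ?_ (hZN T' hT') inf_le_left (by rwa [inv_inv])⟩
      have : Nat.card T' < Nat.card ((S : Subgroup G) ⊓ Subgroup.normalizer (T' : Set G) : Subgroup G) :=
        Set.ncard_lt_ncard (exists_lt_inf_normalizer S.isPGroup' hT' hne) (Set.toFinite _)
      omega
    obtain ⟨a, ha, hsa⟩ := key T hT rfl hTS ⟨a₀, ha₀⟩
    set T' := cj g⁻¹ T with hT'def
    have hne' : T' ≠ (S : Subgroup G) := fun he => hTS (Subgroup.eq_of_le_of_card_ge hT (by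
      rw [← he, card_cj]))
    obtain ⟨b, hb, hsb⟩ := key T' hgT (card_cj _ _) hne' ⟨a₀ * g, by rw [hT'def, cj_cj]; simpa using ha₀⟩
    -- `g = a⁻¹ * (a g b⁻¹) * b`
    have h1 : Steps 𝓕 (T : Set G) a⁻¹ := hsa.mono (le_inf hT Subgroup.le_normalizer)
    have e1 : (fun z => a⁻¹⁻¹ * z * a⁻¹) '' (T : Set G) = (U : Set G) := by
      rw [himg, inv_inv, ha]
    have hm : a * g * b⁻¹ ∈ Subgroup.normalizer (U : Set G) := by
      have : cj (b * g⁻¹ * a⁻¹) U = U := by
        conv_lhs => rw [← ha]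
        rw [cj_cj, show b * g⁻¹ * a⁻¹ * a = b * g⁻¹ by group, ← cj_cj, ← hT'def, hb]
      have := inv_mem (cj_eq_iff.1 this)
      simpa [mul_assoc] using this
    have h2 : Steps 𝓕 (T : Set G) (a⁻¹ * (a * g * b⁻¹)) :=
      h1.comp (by rw [e1]; exact Steps.single U _ hU hm subset_rfl)
    have h3 : Steps 𝓕 (T : Set G) (a⁻¹ * (a * g * b⁻¹) * b) := by
      refine h2.comp ?_
      have h4 := (hsb.mono (le_inf hgT Subgroup.le_normalizer : T' ≤ _)).inv
      rw [himg, inv_inv, hT'def, cj_cj] at h4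
      rw [himg, show (a⁻¹ * (a * g * b⁻¹))⁻¹ = b * g⁻¹ by group]
      exact h4
    simpa [mul_assoc] using h3

theorem steps_of_good_above [Finite G] [Fact p.Prime] (S : Sylow p G) (P : Subgroup G → Prop)
    (hP : ∀ T, P T → FN p (S : Subgroup G) T)
    {Z : Subgroup G} {𝒰 : Subgroup G → Prop} (hZU : ∀ T : Subgroup G, Z ≤ T → T ≤ (S : Subgroup G) → 𝒰 T)
    (hZN : ∀ U : Subgroup G, U ≤ (S : Subgroup G) → Z ≤ (S : Subgroup G) ⊓ Subgroup.normalizer (U : Set G))
    (hrep : ∀ U : Subgroup G, U ≤ (S : Subgroup G) → 𝒰 U → ∃ h : G,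
      cj h ((S : Subgroup G) ⊓ Subgroup.normalizer (U : Set G)) ≤ (S : Subgroup G) ∧ P (cj h U))
    (A : Set G) (g : G) (hZA : Z ≤ Subgroup.closure A) (hA : A ⊆ (S : Subgroup G))
    (hg : (fun a => g⁻¹ * a * g) '' A ⊆ (S : Subgroup G)) :
    Steps {T : Subgroup G | T ≤ (S : Subgroup G) ∧ P T} A g :=
  steps_of_reps_above (𝓕 := {T : Subgroup G | T ≤ (S : Subgroup G) ∧ P T}) S hZN (fun _ hU => hU.1)
    (fun T hZT hT =>
      let ⟨h, hh, hPh⟩ := hrep T hT (hZU T hZT hT)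
      ⟨cj h T, ⟨(Subgroup.map_mono (le_inf hT Subgroup.le_normalizer)).trans hh, hPh⟩, ⟨h, rfl⟩, hP _ hPh⟩)
    A g hZA hA hg

theorem reach_of_local_above [Finite G] [Fact p.Prime] (S : Sylow p G) (h𝓦 : ∀ W ∈ 𝓦, IsConjugacyFunctor p W)
    (P : Subgroup G → Prop) (hP : ∀ T, P T → FN p (S : Subgroup G) T)
    {Z : Subgroup G} (𝒰 : Subgroup G → Prop) (hZU : ∀ T : Subgroup G, Z ≤ T → T ≤ (S : Subgroup G) → 𝒰 T)
    (hZN : ∀ U : Subgroup G, U ≤ (S : Subgroup G) → Z ≤ (S : Subgroup G) ⊓ Subgroup.normalizer (U : Set G))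
    (hZW : ∀ W ∈ 𝓦, ∀ R : Subgroup G, Z ≤ R → R ≤ (S : Subgroup G) → Z ≤ W R)
    (hP𝒰 : ∀ T, P T → 𝒰 T)
    (hrep : ∀ U : Subgroup G, U ≤ (S : Subgroup G) → 𝒰 U → ∃ h : G,
      cj h ((S : Subgroup G) ⊓ Subgroup.normalizer (U : Set G)) ≤ (S : Subgroup G) ∧ P (cj h U))
    (hloc : ∀ T : Subgroup G, T ≤ (S : Subgroup G) → T ≠ ⊥ → P T →
      FamilyControlsStrongFusionIn p 𝓦 (Subgroup.normalizer (T : Set G)))
    {U : Subgroup G} (hU : U ≤ (S : Subgroup G)) (hUU : 𝒰 U) (hU1 : U ≠ ⊥) (B : Set G) (z : G)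
    (hB : B ⊆ ((S : Subgroup G) ⊓ Subgroup.normalizer (U : Set G) : Subgroup G))
    (hz : z ∈ Subgroup.normalizer (U : Set G)) (hzB : (fun a => z * a * z⁻¹) '' B ⊆ (S : Subgroup G)) :
    Reach {z | ∃ W ∈ 𝓦, z ∈ Subgroup.normalizer ((W (S : Subgroup G) : Subgroup G) : Set G)}
      (S : Subgroup G) B z := by
  suffices key : ∀ (k : ℕ) (U : Subgroup G),
      Nat.card G - Nat.card ((S : Subgroup G) ⊓ Subgroup.normalizer (U : Set G) : Subgroup G) = k →
      U ≤ (S : Subgroup G) → 𝒰 U → U ≠ ⊥ → ∀ (B : Set G) (z : G),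
      B ⊆ ((S : Subgroup G) ⊓ Subgroup.normalizer (U : Set G) : Subgroup G) →
      z ∈ Subgroup.normalizer (U : Set G) → (fun a => z * a * z⁻¹) '' B ⊆ (S : Subgroup G) →
      Reach {z | ∃ W ∈ 𝓦, z ∈ Subgroup.normalizer ((W (S : Subgroup G) : Subgroup G) : Set G)}
        (S : Subgroup G) B z from key _ U rfl hU hUU hU1 B z hB hz hzB
  intro k
  induction k using Nat.strong_induction_on with
  | _ k IH =>
  intro U hk hU hUU hU1
  set L := {z | ∃ W ∈ 𝓦, z ∈ Subgroup.normalizer ((W (S : Subgroup G) : Subgroup G) : Set G)}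
  have hL : ∀ z ∈ L, z⁻¹ ∈ L := fun z ⟨W, hW, hz⟩ => ⟨W, hW, inv_mem hz⟩
  set R := (S : Subgroup G) ⊓ Subgroup.normalizer (U : Set G) with hR
  have bigger : ∀ U' : Subgroup G, U' ≤ (S : Subgroup G) → 𝒰 U' → U' ≠ ⊥ →
      Nat.card R < Nat.card ((S : Subgroup G) ⊓ Subgroup.normalizer (U' : Set G) : Subgroup G) →
      ∀ (B : Set G) (z : G), B ⊆ ((S : Subgroup G) ⊓ Subgroup.normalizer (U' : Set G) : Subgroup G) →
      z ∈ Subgroup.normalizer (U' : Set G) → (fun a => z * a * z⁻¹) '' B ⊆ (S : Subgroup G) →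
      Reach L (S : Subgroup G) B z := fun U' hU' hUU' hU1' hlt => by
    refine IH _ ?_ U' rfl hU' hUU' hU1'
    have := Subgroup.card_le_card_group ((S : Subgroup G) ⊓ Subgroup.normalizer (U' : Set G))
    omega
  obtain ⟨h, hhR, hPh⟩ := hrep U hU hUU
  set U' := cj h U
  set R' := (S : Subgroup G) ⊓ Subgroup.normalizer (U' : Set G)
  have hRR' : cj h R ≤ R' := le_inf hhR (cj_le_normalizer h inf_le_right)
  have hU' : U' ≤ (S : Subgroup G) := (Subgroup.map_mono (le_inf hU Subgroup.le_normalizer)).trans hhR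
  have hcardRR' : Nat.card R ≤ Nat.card R' := card_cj h R ▸ Subgroup.card_le_of_le hRR'
  have hU1' : U' ≠ ⊥ := fun e => hU1 ((Subgroup.map_eq_bot_iff_of_injective _ (MulAut.conj h).injective).1 e)
  -- moves inside the normalizer of `U'`
  have main : ∀ (B : Set G) (z : G), B ⊆ R' → z ∈ Subgroup.normalizer (U' : Set G) →
      (fun a => z * a * z⁻¹) '' B ⊆ (S : Subgroup G) → Reach L (S : Subgroup G) B z := by
    intro B z hB hz hzB
    have hzB' : (fun a => z * a * z⁻¹) '' B ⊆ R' := by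
      rintro _ ⟨a, ha, rfl⟩
      exact ⟨hzB ⟨a, ha, rfl⟩, Subgroup.mul_mem _ (Subgroup.mul_mem _ hz (hB ha).2) (Subgroup.inv_mem _ hz)⟩
    obtain ⟨n, c, h0, hcW, hcR, hce⟩ := familyControlsStrongFusion_at h𝓦 inf_le_right
      (S.isPGroup'.to_inf_left) (hP _ hPh) (hloc U' hU' hU1' hPh) B z hz hB hzB'
    refine (Reach.of_chain c h0 (hB.trans fun a ha => ha.1) (fun i => ?_) (Fin.last n)).congr hce
    obtain ⟨W, hW, hc⟩ := hcW i
    have e : (fun a => c i.succ * (c i.castSucc)⁻¹ * a * (c i.succ * (c i.castSucc)⁻¹)⁻¹) ''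
        ((fun a => c i.castSucc * a * (c i.castSucc)⁻¹) '' B) = (fun a => c i.succ * a * (c i.succ)⁻¹) '' B := by
      rw [Set.image_image]
      congr 1; funext a; group
    have hsrc := hcR i.castSucc
    have htgt := e.le.trans (hcR i.succ)
    by_cases hR'S : R' = (S : Subgroup G)
    · refine ⟨c i.succ * (c i.castSucc)⁻¹, ?_, fun _ _ => rfl⟩
      have := Moves.step (L := L) (c i.succ * (c i.castSucc)⁻¹)
        (Moves.refl (hsrc.trans fun a ha => ha.1)) ⟨W, hW, hR'S ▸ hc.2⟩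
        (by rw [mul_one]; exact htgt.trans fun a ha => ha.1)
      rwa [mul_one] at this
    · have hR'p : IsPGroup p R' := S.isPGroup'.to_inf_left
      have hlt : R' < (S : Subgroup G) ⊓ Subgroup.normalizer ((W R' : Subgroup G) : Set G) :=
        (exists_lt_inf_normalizer S.isPGroup' inf_le_left hR'S).trans_le
          (inf_le_inf_left _ (normalizer_le_normalizer_functor (h𝓦 W hW) hR'p))
      refine bigger _ ((h𝓦 W hW _ hR'p).1.trans inf_le_left)
        (hZU _ (hZW W hW _ (hZN _ hU') inf_le_left) ((h𝓦 W hW _ hR'p).1.trans inf_le_left)) ((h𝓦 W hW _ hR'p).2.1 ?_) ?_ _ _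
        (hsrc.trans hlt.le) hc.2 (htgt.trans fun a ha => ha.1)
      · exact fun e => hU1' (le_bot_iff.1 (e ▸ le_inf hU' Subgroup.le_normalizer))
      · exact hcardRR'.trans_lt (Set.ncard_lt_ncard hlt (Set.toFinite _))
  intro B z hB hz hzB
  by_cases hfn : P U
  · -- `U` is good itself
    obtain ⟨n, c, h0, hcW, hcR, hce⟩ := familyControlsStrongFusion_at h𝓦 inf_le_right
      (S.isPGroup'.to_inf_left) (hP _ hfn) (hloc U hU hU1 hfn) B z hz hB (by
        rintro _ ⟨a, ha, rfl⟩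
        exact ⟨hzB ⟨a, ha, rfl⟩, Subgroup.mul_mem _ (Subgroup.mul_mem _ hz (hB ha).2) (Subgroup.inv_mem _ hz)⟩)
    refine (Reach.of_chain c h0 (hB.trans fun a ha => ha.1) (fun i => ?_) (Fin.last n)).congr hce
    obtain ⟨W, hW, hc⟩ := hcW i
    have e : (fun a => c i.succ * (c i.castSucc)⁻¹ * a * (c i.succ * (c i.castSucc)⁻¹)⁻¹) ''
        ((fun a => c i.castSucc * a * (c i.castSucc)⁻¹) '' B) = (fun a => c i.succ * a * (c i.succ)⁻¹) '' B := by
      rw [Set.image_image]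
      congr 1; funext a; group
    have hsrc := hcR i.castSucc
    have htgt := e.le.trans (hcR i.succ)
    by_cases hRS : R = (S : Subgroup G)
    · refine ⟨c i.succ * (c i.castSucc)⁻¹, ?_, fun _ _ => rfl⟩
      have := Moves.step (L := L) (c i.succ * (c i.castSucc)⁻¹)
        (Moves.refl (hsrc.trans fun a ha => ha.1)) ⟨W, hW, hRS ▸ hc.2⟩
        (by rw [mul_one]; exact htgt.trans fun a ha => ha.1)
      rwa [mul_one] at this
    · have hRp : IsPGroup p R := S.isPGroup'.to_inf_left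
      have hlt : R < (S : Subgroup G) ⊓ Subgroup.normalizer ((W R : Subgroup G) : Set G) :=
        (exists_lt_inf_normalizer S.isPGroup' inf_le_left hRS).trans_le
          (inf_le_inf_left _ (normalizer_le_normalizer_functor (h𝓦 W hW) hRp))
      refine bigger _ ((h𝓦 W hW _ hRp).1.trans inf_le_left)
        (hZU _ (hZW W hW _ (hZN _ hU) inf_le_left) ((h𝓦 W hW _ hRp).1.trans inf_le_left)) ((h𝓦 W hW _ hRp).2.1 ?_) ?_ _ _
        (hsrc.trans hlt.le) hc.2 (htgt.trans fun a ha => ha.1)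
      · exact fun e => hU1 (le_bot_iff.1 (e ▸ le_inf hU Subgroup.le_normalizer))
      · exact Set.ncard_lt_ncard hlt (Set.toFinite _)
  -- the map `h` on `R` is reached
  have hreach : Reach L (S : Subgroup G) (R : Set G) h := by
    by_cases hR'big : R = (S : Subgroup G)
    · -- then `h` normalizes `S`, and `S` itself is good
      have hS : cj h (S : Subgroup G) = (S : Subgroup G) :=
        Subgroup.eq_of_le_of_card_ge (by rw [hR'big] at hRR'; exact hRR'.trans inf_le_left) (by rw [card_cj])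
      have hS1 : (S : Subgroup G) ≠ ⊥ := fun e => hU1 (le_bot_iff.1 (e ▸ hU))
      obtain ⟨t, ht, hPt⟩ := hrep (S : Subgroup G) le_rfl (hZU _ ((hZN _ hU).trans inf_le_left) le_rfl)
      rw [inf_eq_left.2 Subgroup.le_normalizer] at ht
      have hSt : cj t (S : Subgroup G) = (S : Subgroup G) :=
        Subgroup.eq_of_le_of_card_ge ht (by rw [card_cj])
      rw [hSt] at hPt
      have hh : h ∈ Subgroup.normalizer ((S : Subgroup G) : Set G) := cj_eq_iff.1 hS
      obtain ⟨n, c, h0, hcW, hcR, hce⟩ := familyControlsStrongFusion_at h𝓦 Subgroup.le_normalizer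
        S.isPGroup' (by
          have := hP _ hPt
          rwa [FN, inf_eq_left.2 (Subgroup.le_normalizer (H := (S : Subgroup G)))] at this)
        (hloc _ le_rfl hS1 hPt) (R : Set G) h hh (fun a ha => ha.1)
        (by rintro _ ⟨a, ha, rfl⟩; exact hhR ⟨a, ha, rfl⟩)
      refine (Reach.of_chain c h0 (fun a ha => ha.1) (fun i => ?_) (Fin.last n)).congr hce
      obtain ⟨W, hW, hc⟩ := hcW i
      refine ⟨c i.succ * (c i.castSucc)⁻¹, ?_, fun _ _ => rfl⟩
      have := Moves.step (L := L) (c i.succ * (c i.castSucc)⁻¹) (Moves.refl (hcR i.castSucc)) ⟨W, hW, hc.2⟩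
        (by
          rw [mul_one, Set.image_image]
          refine le_trans (le_of_eq ?_) (hcR i.succ)
          congr 1; funext a; group)
      rwa [mul_one] at this
    · have hst := steps_of_good_above S P hP hZU hZN hrep (R : Set G) h⁻¹
        (by rw [Subgroup.closure_eq]; exact hZN _ hU) (fun a ha => ha.1)
        (by rintro _ ⟨a, ha, rfl⟩; rw [inv_inv]; exact hhR ⟨a, ha, rfl⟩)
      have hres := reach_of_steps (L := L) (S : Subgroup G) (m := Nat.card R) (fun T hT => hT.1)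
        (fun T hT ⟨B₀, hB₀, hcard⟩ B hB x hx => by
          have hle : Nat.card R ≤ Nat.card T := hcard ▸ Set.ncard_le_ncard hB₀ (Set.toFinite _)
          have hT1 : T ≠ ⊥ := by
            intro e
            rw [e, Subgroup.card_bot] at hle
            have : R = ⊥ := Subgroup.card_eq_one.1 (le_antisymm hle Nat.card_pos)
            exact hU1 (le_bot_iff.1 (this ▸ le_inf hU Subgroup.le_normalizer))
          refine bigger T hT.1 (hP𝒰 T hT.2) hT1 ?_ B x (hB.trans (le_inf hT.1 Subgroup.le_normalizer)) hx ?_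
          · by_cases hTS : T = (S : Subgroup G)
            · rw [hTS, inf_eq_left.2 Subgroup.le_normalizer]
              exact Set.ncard_lt_ncard (lt_of_le_of_ne inf_le_left hR'big : R < (S : Subgroup G)) (Set.toFinite _)
            · exact hle.trans_lt (Set.ncard_lt_ncard (exists_lt_inf_normalizer S.isPGroup' hT.1 hTS)
                (Set.toFinite _))
          · rintro _ ⟨a, ha, rfl⟩
            exact hT.1 ((Subgroup.mem_normalizer_iff.1 hx a).1 (hB ha)))
        hst (Nat.card_coe_set_eq _).symm (fun a ha => ha.1)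
      rwa [inv_inv] at hres
  have h1 : Reach L (S : Subgroup G) B h := hreach.mono hB
  have h2 : Reach L (S : Subgroup G) ((fun a => h * a * h⁻¹) '' B) (h * z * h⁻¹) := by
    refine main _ _ ?_ ?_ ?_
    · rintro _ ⟨a, ha, rfl⟩; exact hRR' ⟨a, hB ha, rfl⟩
    · show _ ∈ Subgroup.normalizer ((cj h U : Subgroup G) : Set G)
      rw [← cj_normalizer]; exact conj_mem_cj h hz
    · rintro _ ⟨_, ⟨a, ha, rfl⟩, rfl⟩
      have := hhR ⟨z * a * z⁻¹, ⟨hzB ⟨a, ha, rfl⟩, Subgroup.mul_mem _ (Subgroup.mul_mem _ hz (hB ha).2) (Subgroup.inv_mem _ hz)⟩, rfl⟩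
      simp only [SetLike.mem_coe] at this ⊢
      convert this using 1
      show h * z * h⁻¹ * (h * a * h⁻¹) * (h * z * h⁻¹)⁻¹ = h * (z * a * z⁻¹) * h⁻¹
      group
  have h3 : Reach L (S : Subgroup G) ((fun a => h * z * a * (h * z)⁻¹) '' B) h⁻¹ := by
    have h4 : Reach L (S : Subgroup G) ((fun a => z * a * z⁻¹) '' B) h := hreach.mono (by
      rintro _ ⟨a, ha, rfl⟩
      exact ⟨hzB ⟨a, ha, rfl⟩, Subgroup.mul_mem _ (Subgroup.mul_mem _ hz (hB ha).2) (Subgroup.inv_mem _ hz)⟩)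
    have h5 := h4.inv hL
    rw [Set.image_image] at h5
    convert h5 using 2
    group
  have h12 := h1.comp h2
  have e12 : h * z * h⁻¹ * h = h * z := by group
  rw [e12] at h12
  have := h12.comp h3
  rwa [show h⁻¹ * (h * z) = z by group] at this

theorem reach_of_above [Finite G] [Fact p.Prime] (S : Sylow p G) (h𝓦 : ∀ W ∈ 𝓦, IsConjugacyFunctor p W)
    (P : Subgroup G → Prop) (hP : ∀ T, P T → FN p (S : Subgroup G) T)
    {Z : Subgroup G} (𝒰 : Subgroup G → Prop) (hZU : ∀ T : Subgroup G, Z ≤ T → T ≤ (S : Subgroup G) → 𝒰 T)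
    (hZN : ∀ U : Subgroup G, U ≤ (S : Subgroup G) → Z ≤ (S : Subgroup G) ⊓ Subgroup.normalizer (U : Set G))
    (hZW : ∀ W ∈ 𝓦, ∀ R : Subgroup G, Z ≤ R → R ≤ (S : Subgroup G) → Z ≤ W R)
    (hP𝒰 : ∀ T, P T → 𝒰 T)
    (hrep : ∀ U : Subgroup G, U ≤ (S : Subgroup G) → 𝒰 U → ∃ h : G,
      cj h ((S : Subgroup G) ⊓ Subgroup.normalizer (U : Set G)) ≤ (S : Subgroup G) ∧ P (cj h U))
    (hloc : ∀ T : Subgroup G, T ≤ (S : Subgroup G) → T ≠ ⊥ → P T →
      FamilyControlsStrongFusionIn p 𝓦 (Subgroup.normalizer (T : Set G)))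
    (A : Set G) (g : G) (hZA : Z ≤ Subgroup.closure A) (hA : A ⊆ (S : Subgroup G))
    (hgA : (fun a => g * a * g⁻¹) '' A ⊆ (S : Subgroup G)) :
    Reach {z | ∃ W ∈ 𝓦, z ∈ Subgroup.normalizer ((W (S : Subgroup G) : Subgroup G) : Set G)}
      (S : Subgroup G) A g := by
  set L := {z | ∃ W ∈ 𝓦, z ∈ Subgroup.normalizer ((W (S : Subgroup G) : Subgroup G) : Set G)}
  have key : ∀ (B : Set G) (y : G), Steps {T : Subgroup G | T ≤ (S : Subgroup G) ∧ P T} B y →
      B ⊆ (S : Subgroup G) → Reach L (S : Subgroup G) B y⁻¹ := by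
    intro B y hst hB
    refine reach_of_steps (m := B.ncard) (S : Subgroup G) (fun T hT => hT.1)
      (fun T hT _ C hC x hx => ?_) hst rfl hB
    by_cases hT1 : T = ⊥
    · subst hT1
      refine ⟨1, Moves.refl (hC.trans hT.1), fun a ha => ?_⟩
      have : a = 1 := hC ha
      simp [this]
    · refine reach_of_local_above S h𝓦 P hP 𝒰 hZU hZN hZW hP𝒰 hrep hloc hT.1 (hP𝒰 T hT.2) hT1 C x
        (hC.trans (le_inf hT.1 Subgroup.le_normalizer)) hx ?_
      rintro _ ⟨a, ha, rfl⟩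
      exact hT.1 ((Subgroup.mem_normalizer_iff.1 hx a).1 (hC ha))
  have := key A g⁻¹ (steps_of_good_above S P hP hZU hZN hrep A g⁻¹ hZA hA (by rw [inv_inv]; exact hgA)) hA
  rwa [inv_inv] at this

end Cfsg.Agent.AlperinFamily
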